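import Groth.Agent.L27.FinBC.GenericTools

/-! # Sheaves on a geometric point, detection of zero maps -/

universe u

open CategoryTheory CategoryTheory.Limits AlgebraicGeometry Opposite IsLocalRing Abelian

set_option backward.isDefEq.respectTransparency.types false
set_option linter.style.haveILetI false
set_option linter.unusedSectionVars false

noncomputable section

namespace Groth.L27.XV

/-- Sheaves on a separably closed point are constant. -/
theorem exists_iso_K_point (Ω : Type u) [Field Ω] [IsSepClosed Ω] (G : EtCoh.Ab (Spec (CommRingCat.of Ω))) :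
    Nonempty (ConstSect.K (G.obj.obj (op (EtCoh.top _))) (Spec (CommRingCat.of Ω)) ≅ G) := by
  haveI : IsSepClosed (ResidueField Ω) := AffineEfface.isSepClosed_residueField Ω
  haveI : Subsingleton ↥(Spec (CommRingCat.of Ω)) := inferInstanceAs (Subsingleton (PrimeSpectrum Ω))
  let S := Spec (CommRingCat.of Ω)
  let A := G.obj.obj (op (EtCoh.top S))
  obtain ⟨f, hf⟩ := FLC.exists_constMap (M := A) (H := G) (AddMonoidHom.id A)
  have hsec : ∀ (Q : S.Etale) (q : Q.left), ∃ σ : EtCoh.top S ⟶ Q, ∃ t : (EtCoh.top S).left, σ.left t = q := by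
    intro Q q
    obtain ⟨y, hy⟩ := EtSite.exists_fiber (EtSite.closedPt Ω) Q q (Subsingleton.elim (α := ↥(Spec (CommRingCat.of Ω))) _ _)
    obtain ⟨σ, hσ⟩ := EtSite.exists_section Ω Q y
    refine ⟨σ, (EtSite.topPt Ω).left (default : Spec (CommRingCat.of (ResidueField Ω))), ?_⟩
    rw [← hy, ← hσ]
    exact (Scheme.Hom.comp_apply _ _ _).symm
  haveI : IsIso f := FLC.isIso_of_sections f (fun Q hQ m h => by
      obtain ⟨σ, -⟩ := hsec Q hQ.some
      rw [hf] at h
      have h2 := congrArg (G.obj.map σ.op) h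
      rw [FLC.map_map, map_zero, FLC.comp_toTop] at h2
      have h3 : FLC.toTop (EtCoh.top S) = 𝟙 (EtCoh.top S) := (EtCore.topIsTerminal S).hom_ext _ _
      rw [h3, op_id, CategoryTheory.Functor.map_id] at h2
      exact h2)
    (fun Q x q => by
      obtain ⟨σ, t, ht⟩ := hsec Q q
      refine ⟨EtCoh.top S, σ, t, G.obj.map σ.op x, ht, ?_⟩
      rw [hf]
      have h3 : FLC.toTop (EtCoh.top S) = 𝟙 (EtCoh.top S) := (EtCore.topIsTerminal S).hom_ext _ _
      rw [h3, op_id, CategoryTheory.Functor.map_id]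
      rfl)
  exact ⟨asIso f⟩

/-- A morphism vanishing at all stalks vanishes. -/
theorem eq_zero_of_stalks {X : Scheme.{u}} {F G : EtCoh.Ab X} (a : F ⟶ G)
    (h : ∀ x : X, ∃ (K : Type u) (_ : Field K) (_ : IsSepClosed K) (ξ : Spec (CommRingCat.of K) ⟶ X),
      ξ.base default = x ∧ (EtCoh.stalk ξ).map a = 0) : a = 0 := by
  suffices hz : IsZero (Abelian.image a) by
    rw [← Abelian.image.fac a, hz.eq_of_tgt (Abelian.factorThruImage a) 0, zero_comp]
  refine EtSite.isZero_of_stalks _ fun x => ?_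
  obtain ⟨K, _, _, ξ, hξ, h0⟩ := h x
  refine ⟨K, _, inferInstance, ξ, hξ, ?_⟩
  haveI : PreservesFiniteLimits (EtCoh.stalk ξ) := inferInstance
  have hp : (EtCoh.stalk ξ).map (Abelian.factorThruImage a) = 0 := by
    rw [← cancel_mono ((EtCoh.stalk ξ).map (Abelian.image.ι a)), ← Functor.map_comp, Abelian.image.fac, h0, zero_comp]
  haveI : Epi ((EtCoh.stalk ξ).map (Abelian.factorThruImage a)) := inferInstance
  exact IsZero.of_epi_eq_zero _ hp

/-- A morphism vanishes when it vanishes on a jointly surjective family. -/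
theorem eq_zero_of_family {X : Scheme.{u}} {F G : EtCoh.Ab X} (a : F ⟶ G)
    (h : ∀ x : X, ∃ (U : Scheme.{u}) (ι : U ⟶ X), x ∈ Set.range ι ∧ (EtCoh.pull ι).map a = 0) : a = 0 := by
  refine eq_zero_of_stalks a fun x => ?_
  obtain ⟨U, ι, ⟨v, rfl⟩, h0⟩ := h x
  obtain ⟨K, _, _, ξ, rfl⟩ := EtSite.exists_geometric_point v
  refine ⟨K, _, inferInstance, ξ ≫ ι, rfl, ?_⟩
  have hn := (EtSite.stalkPullIso ι ξ).hom.naturality a
  rw [Functor.comp_map, h0, Functor.map_zero, zero_comp] at hn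
  exact ((cancel_epi ((EtSite.stalkPullIso ι ξ).hom.app F)).1 (hn.symm.trans comp_zero.symm))

/-- A class of degree zero vanishes when it vanishes on a jointly surjective family. -/
theorem H0_eq_zero_of_family {X : Scheme.{u}} {G : EtCoh.Ab X} (e : EtCoh.H X G 0)
    (h : ∀ x : X, ∃ (U : Scheme.{u}) (ι : U ⟶ X), x ∈ Set.range ι ∧
      ∀ [PreservesFiniteLimits (EtCoh.pull ι)], EtCore.Hpull ι G 0 e = 0) : e = 0 := by
  obtain ⟨a, rfl⟩ := (Ext.mk₀_bijective _ _).2 e
  suffices ha : a = 0 by rw [ha]; exact Ext.mk₀_zero _ _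
  refine eq_zero_of_family a fun x => ?_
  obtain ⟨U, ι, hx, h0⟩ := h x
  haveI := EtSite.preservesFiniteLimits_pull ι
  refine ⟨U, ι, hx, ?_⟩
  have h1 := @h0 inferInstance
  rw [EtSite.Hpull_def, Ext.mapExactFunctor_mk₀, Ext.mk₀_comp_mk₀] at h1
  have h2 := (Ext.mk₀_bijective _ _).1 (h1.trans (Ext.mk₀_zero _ _).symm)
  exact (cancel_epi (EtCore.pullConst ι ℤ).inv).1 (h2.trans comp_zero.symm)

end Groth.L27.XV
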