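import Groth.Agent.L27.XV.Transfer
import Groth.Agent.L28.AcycCrit.Square
import Groth.Agent.L27.XV.Point
import Mathlib.FieldTheory.IsAlgClosed.AlgebraicClosure

/-! # Degree zero comparison over a strictly local base -/

universe u

open CategoryTheory CategoryTheory.Limits AlgebraicGeometry Opposite IsLocalRing Abelian

set_option backward.isDefEq.respectTransparency.types false
set_option linter.style.haveILetI false
set_option linter.unusedSectionVars false

noncomputable section

namespace Groth.L27.XV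

open Groth.L27.LimCoh Groth.L27.LimBC Groth.L27.FinBC

/-- A strict localization over the closed point of a strictly local base. -/
theorem exists_strictLoc {P : ∀ ⦃A B : Scheme.{u}⦄, (A ⟶ B) → Prop} (R : Type u) [CommRing R] [HenselianLocalRing R]
    [IsSepClosed (ResidueField R)] {X : Scheme.{u}} (g : X ⟶ Spec (CommRingCat.of R))
    (H : EtAcyc.OnStrictLocalizations g P) (x : X) (hx : g x = closedPoint R) :
    ∃ (RX : Type u) (_ : CommRing RX) (_ : HenselianLocalRing RX) (_ : IsSepClosed (ResidueField RX))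
      (_ : Algebra R RX) (_ : IsLocalHom (algebraMap R RX)) (b : Spec (CommRingCat.of RX) ⟶ X),
      b (closedPoint RX) = x ∧ b ≫ g = Spec.map (CommRingCat.ofHom (algebraMap R RX)) ∧
        P (Spec.map (CommRingCat.ofHom (algebraMap R RX))) := by
  obtain ⟨RX, _, _, _, _, hRX⟩ := L05.Henselization.exists_isStrictHenselization (X.presheaf.stalk x)
  haveI := hRX
  obtain ⟨_, _⟩ := StalkBC.henselian_strict x RX
  let S := Spec (CommRingCat.of R)
  letI : Algebra (S.presheaf.stalk ((𝟙 S : S ⟶ S) (closedPoint R))) R :=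
    (Scheme.stalkClosedPointTo (𝟙 S)).hom.toAlgebra
  obtain ⟨_, _⟩ := isStrictHenselization_closedPointTo R (𝟙 S)
  have key : ∀ (s : S) (hs : g x = s) [Algebra (S.presheaf.stalk s) R] [IsLocalHom (algebraMap (S.presheaf.stalk s) R)]
      [Hensel.IsStrictHenselization (S.presheaf.stalk s) R], Hens2.specOf S s R = 𝟙 S →
      ∃ (_ : Algebra R RX) (_ : IsLocalHom (algebraMap R RX)),
        Hens2.specOf X x RX ≫ g = Spec.map (CommRingCat.ofHom (algebraMap R RX)) ∧
          P (Spec.map (CommRingCat.ofHom (algebraMap R RX))) := by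
    intro s hs _ _ _ hspec
    subst hs
    obtain ⟨ψ, _, hψ⟩ := StalkBC.exists_strictMap g x R RX
    letI : Algebra R RX := ψ.toAlgebra
    haveI : IsLocalHom (algebraMap R RX) := ‹IsLocalHom ψ›
    refine ⟨inferInstance, inferInstance, ?_, H x R RX hψ⟩
    exact (StalkBC.specOf_comp g x R RX ψ hψ).symm.trans ((congrArg (_ ≫ ·) hspec).trans (Category.comp_id _))
  have hpt : g x = (𝟙 S : S ⟶ S) (closedPoint R) := hx
  obtain ⟨iA, iL, h1, h2⟩ := key _ hpt (Scheme.Spec_stalkClosedPointTo_fromSpecStalk (𝟙 S))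
  exact ⟨RX, inferInstance, inferInstance, inferInstance, iA, iL, Hens2.specOf X x RX, specOf_closedPoint x RX, h1, h2⟩

/-- Global constants are detected on nonempty schemes. -/
theorem injective_Hpull_zero_K {X Y : Scheme.{u}} (f : Y ⟶ X) [PreservesFiniteLimits (EtCoh.pull f)]
    [ConnectedSpace X] [Nonempty Y] (A : AddCommGrpCat.{u + 1}) :
    Function.Injective (EtCore.Hpull f (ConstSect.K A X) 0) := by
  refine (L28.AcycCrit.injective_Hpull_zero_iff (f := f) _).2 ?_
  let k := (EtCoh.push f).map ((EtCore.pullConstIso f).hom.app A)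
  have hk := ConcreteCategory.bijective_of_isIso (((sheafToPresheaf _ _).map k).app (op (EtCoh.top X)))
  refine fun s t hst => ?_
  obtain ⟨a, rfl⟩ := (FLC.bijective_cst_top (M := A) (X := X)).2 s
  obtain ⟨b, rfl⟩ := (FLC.bijective_cst_top (M := A) (X := X)).2 t
  have e : (ConstSect.cmp A f).hom.app (op (EtCoh.top X)) (ConstSect.cst A (EtCoh.top X) a) =
      (ConstSect.cmp A f).hom.app (op (EtCoh.top X)) (ConstSect.cst A (EtCoh.top X) b) :=
    congrArg (fun z => k.hom.app (op (EtCoh.top X)) z) hst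
  rw [ConstSect.cmp_top, ConstSect.cmp_top] at e
  haveI : Nonempty ((EtCoh.bc f).obj (EtCoh.top X)).left := by
    obtain ⟨z, -, -⟩ := Scheme.Pullback.exists_preimage_pullback (f := (EtCoh.top X).hom) (g := f)
      (f (Classical.arbitrary Y)) (Classical.arbitrary Y) rfl
    exact ⟨z⟩
  exact congrArg _ (ConstSect.cst_injective A _ e)

/-- An algebraic geometric point exists over every point. -/
theorem nonempty_fibre {L : Set ℕ} {n : ℕ} {X Y : Scheme.{u}} (g : X ⟶ Y) (H : EtAcyc.GeomFibresAcyclicN L n g)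
    (y : Y) : ∃ x, g x = y := by
  let Ω := AlgebraicClosure (Y.residueField y)
  obtain ⟨⟨u⟩, -, -⟩ := H y Ω
  refine ⟨pullback.fst g (EtAcyc.geomPt Y y Ω) u, ?_⟩
  rw [← Scheme.Hom.comp_apply, pullback.condition, Scheme.Hom.comp_apply]
  exact (Scheme.Hom.comp_apply _ _ _).trans (Scheme.fromSpecResidueField_apply y _)

/-- Over a strictly local base, connected fibres and surjective strict localizations give bijectivity in degree
zero. -/
theorem bijective_zero {L : Set ℕ} (R : Type u) [CommRing R] [HenselianLocalRing R]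
    [IsSepClosed (ResidueField R)] {X : Scheme.{u}} (g : X ⟶ Spec (CommRingCat.of R))
    (hs : SurjStrict g) (hf : EtAcyc.GeomFibresAcyclicN L 0 g) (F : EtCoh.Ab (Spec (CommRingCat.of R)))
    [PreservesFiniteLimits (EtCoh.pull g)] : Function.Bijective (EtCore.Hpull g F 0) := by
  obtain ⟨x₀, hx₀⟩ := nonempty_fibre g hf (closedPoint R)
  obtain ⟨RX, _, _, _, _, _, b, -, hb, hsurj⟩ := exists_strictLoc R g hs x₀ hx₀
  let m := Spec.map (CommRingCat.ofHom (algebraMap R RX))
  haveI := EtSite.preservesFiniteLimits_pull b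
  haveI := EtSite.preservesFiniteLimits_pull m
  haveI : PreservesFiniteLimits (EtCoh.pull (b ≫ g)) := EtSite.preservesFiniteLimits_pull _
  have hm : Function.Bijective (EtCore.Hpull m F 0) := bijective_Hpull_local (algebraMap R RX) F 0
  have hbg : Function.Bijective (EtCore.Hpull (b ≫ g) F 0) :=
    bijective_Hpull_iso_comp (𝟙 _) m (by rw [Category.id_comp, hb]) F 0 hm
  haveI := isIso_gamma b g rfl F
  let γ := (EtCoh.HF (Spec (CommRingCat.of RX)) 0).map (gamma b g rfl F)
  have hcomp : ∀ e, EtCore.Hpull b _ 0 (EtCore.Hpull g F 0 e) = γ (EtCore.Hpull (b ≫ g) F 0 e) :=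
    fun e => Hpull_comp b g rfl 0 F e
  have hall : Function.Bijective fun e => EtCore.Hpull b _ 0 (EtCore.Hpull g F 0 e) := by
    rw [show (fun e => EtCore.Hpull b _ 0 (EtCore.Hpull g F 0 e)) = γ ∘ EtCore.Hpull (b ≫ g) F 0 from funext hcomp]
    exact (ConcreteCategory.bijective_of_isIso γ).comp hbg
  refine ⟨fun e e' h => hall.1 (congrArg (EtCore.Hpull b _ 0) h), fun s => ?_⟩
  obtain ⟨e, he⟩ := hall.2 (EtCore.Hpull b _ 0 s)
  refine ⟨e, sub_eq_zero.1 ?_⟩
  let d := EtCore.Hpull g F 0 e - s
  have hd : EtCore.Hpull b _ 0 d = 0 := (map_sub _ _ _).trans (sub_eq_zero.2 he)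
  refine H0_eq_zero_of_family d fun x => ?_
  let y := g x
  let Ω := AlgebraicClosure ((Spec (CommRingCat.of R)).residueField y)
  let t := EtAcyc.geomPt (Spec (CommRingCat.of R)) y Ω
  have hty : ∀ w, t w = y := fun w => (Scheme.Hom.comp_apply _ _ _).trans (Scheme.fromSpecResidueField_apply y _)
  obtain ⟨u, hu, -⟩ := Scheme.Pullback.exists_preimage_pullback (f := g) (g := t) x (closedPoint Ω) (hty _).symm
  obtain ⟨_, hconn, -⟩ := hf y Ω
  refine ⟨pullback g t, pullback.fst g t, ⟨u, hu⟩, ?_⟩
  intro _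
  let U := pullback g t
  let i := pullback.fst g t
  let p := pullback.snd g t
  -- a point of the fibre coming from the strict localization
  obtain ⟨z, hz⟩ := hsurj y
  obtain ⟨w, -, -⟩ := Scheme.Pullback.exists_preimage_pullback (f := m) (g := t) z (closedPoint Ω)
    (hz.trans (hty _).symm)
  let U' := pullback m t
  haveI : Nonempty U' := ⟨w⟩
  let j : U' ⟶ U := pullback.lift (pullback.fst m t ≫ b) (pullback.snd m t)
    (by rw [Category.assoc, hb]; exact pullback.condition)
  have hj : j ≫ i = pullback.fst m t ≫ b := pullback.lift_fst _ _ _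
  obtain ⟨α⟩ := exists_iso_K_point Ω ((EtCoh.pull t).obj F)
  haveI := EtSite.preservesFiniteLimits_pull j
  haveI := EtSite.preservesFiniteLimits_pull (pullback.fst m t)
  haveI := EtSite.preservesFiniteLimits_pull (j ≫ i)
  let K := ((EtCoh.pull g).obj F)
  let A := ((EtCoh.pull t).obj F).obj.obj (op (EtCoh.top _))
  let e₀ : (EtCoh.pull i).obj K ≅ ConstSect.K A U :=
    ((EtCore.pullComp i g).app F).symm ≪≫ (EtCore.pullCongr pullback.condition).app F ≪≫
      (EtCore.pullComp p t).app F ≪≫ (EtCoh.pull p).mapIso α.symm ≪≫ (EtCore.pullConstIso p).app A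
  let ε := (EtCoh.HF U 0).map e₀.hom
  have hε : Function.Bijective ε := ConcreteCategory.bijective_of_isIso _
  refine hε.1 (Eq.trans ?_ (map_zero ε.hom).symm)
  refine injective_Hpull_zero_K j A (Eq.trans ?_ (map_zero _).symm)
  show EtCore.Hpull j _ 0 ((EtCoh.HF U 0).map e₀.hom (EtCore.Hpull i K 0 d)) = 0
  rw [Hpull_map j e₀.hom 0, Hpull_comp j i rfl 0 K d]
  have h0 : EtCore.Hpull (j ≫ i) K 0 d = 0 := by
    haveI := EtSite.preservesFiniteLimits_pull (pullback.fst m t ≫ b)
    have h1 : EtCore.Hpull (pullback.fst m t ≫ b) K 0 d = 0 := by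
      haveI := isIso_gamma (pullback.fst m t) b rfl K
      apply (ConcreteCategory.bijective_of_isIso ((EtCoh.HF U' 0).map (gamma (pullback.fst m t) b rfl K))).1
      refine (Hpull_comp (pullback.fst m t) b rfl 0 K d).symm.trans ?_
      exact ((congrArg _ hd).trans (map_zero _)).trans (map_zero _).symm
    have aux : ∀ (k₁ k₂ : U' ⟶ X) [PreservesFiniteLimits (EtCoh.pull k₁)] [PreservesFiniteLimits (EtCoh.pull k₂)],
        k₁ = k₂ → EtCore.Hpull k₂ K 0 d = 0 → EtCore.Hpull k₁ K 0 d = 0 := by
      intro k₁ k₂ _ _ hk h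
      subst hk
      exact h
    exact aux _ _ hj h1
  rw [h0]
  exact (congrArg _ (map_zero _)).trans (map_zero _)

end Groth.L27.XV
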