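import Groth.Agent.L27.XV.ProperEdge
import Groth.Agent.L27.XV.BaseZero
import Groth.Agent.L27.PBC.Henselian
import Groth.Agent.L28.LocConst.PullInst
import Groth.Agent.L28.AcyComp.Iso

/-! # Cospecialization for proper locally acyclic morphisms over a strictly local base (SGA 4 XV 2.1) -/

universe u

open CategoryTheory CategoryTheory.Limits AlgebraicGeometry Opposite IsLocalRing Abelian

set_option backward.isDefEq.respectTransparency.types false
set_option linter.style.haveILetI false
set_option linter.unusedSectionVars false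

noncomputable section

namespace Groth.L27.XV

open Groth.L27.LimCoh Groth.L27.LimBC Groth.L27.FinBC

/-- Torsion for no prime is zero. -/
theorem isZero_of_no_prime {X : Scheme.{u}} {L : Set ℕ} (hL : ∀ ℓ ∈ L, ¬ ℓ.Prime) {F : EtCoh.Ab X}
    (hF : EtAcyc.IsLTorsion L F) : IsZero F := by
  refine EtSite.isZero_of_stalks _ fun y => ?_
  obtain ⟨K, _, _, ξ, hξ⟩ := EtSite.exists_geometric_point y
  refine ⟨K, inferInstance, inferInstance, ξ, hξ, ?_⟩
  haveI : Subsingleton ((EtCoh.stalk ξ).obj F) := subsingleton_of_forall_eq 0 fun t => by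
    obtain ⟨m, ⟨hm0, hm⟩, h⟩ := L28.EtTor.isLTorsion_iff_stalks.1 hF K ξ t
    obtain rfl : m = 1 := by
      by_contra hne
      obtain ⟨p, hp, hd⟩ := Nat.exists_prime_and_dvd hne
      exact hL p (hm p hp hd) hp
    exact (one_nsmul t).symm.trans h
  exact AddCommGrpCat.isZero_of_subsingleton _

/-- The cospecialization maps are bijective up to the degree of local acyclicity. -/
theorem bijective_geomFibre_of_proper (R : Type u) [CommRing R] [HenselianLocalRing R]
    [IsSepClosed (ResidueField R)] {X : Scheme.{u}} (f : X ⟶ Spec (CommRingCat.of R)) [IsProper f] (L : Set ℕ)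
    (hL : ∃ ℓ ∈ L, ℓ.Prime) (n : ℕ) (hf : EtAcyc.IsLocAcyclicN f L n) (F : EtCoh.Ab X)
    (hF : EtAcyc.IsLTorsion L F) (hlc : EtRest.IsLocallyConstant F) (y₁ : Spec (CommRingCat.of R)) (Ω : Type u)
    [Field Ω] [IsSepClosed Ω] [Algebra ((Spec (CommRingCat.of R)).residueField y₁) Ω]
    [Algebra.IsAlgebraic ((Spec (CommRingCat.of R)).residueField y₁) Ω]
    [PreservesFiniteLimits (EtCoh.pull (pullback.fst f (EtAcyc.geomPt (Spec (CommRingCat.of R)) y₁ Ω)))] :
    (∀ q : ℕ, q ≤ n →
      Function.Bijective (EtCore.Hpull (pullback.fst f (EtAcyc.geomPt (Spec (CommRingCat.of R)) y₁ Ω)) F q)) ∧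
    Function.Injective (EtCore.Hpull (pullback.fst f (EtAcyc.geomPt (Spec (CommRingCat.of R)) y₁ Ω)) F (n + 1)) := by
  let t := EtAcyc.geomPt (Spec (CommRingCat.of R)) y₁ Ω
  let j := pullback.fst f t
  haveI : IsAffineHom t := inferInstance
  haveI : IsAffineHom j := MorphismProperty.pullback_fst (P := @IsAffineHom) _ _ inferInstance
  haveI : CompactSpace X := QuasiCompact.compactSpace_of_compactSpace f
  haveI : QuasiSeparatedSpace X := quasiSeparatedSpace_of_quasiSeparated f
  haveI : CompactSpace ↥(pullback f t) := QuasiCompact.compactSpace_of_compactSpace j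
  haveI : QuasiSeparatedSpace ↥(pullback f t) := quasiSeparatedSpace_of_quasiSeparated j
  let i := pullback.fst f (Spec.map (CommRingCat.ofHom (residue R)))
  haveI : IsClosedImmersion (Spec.map (CommRingCat.ofHom (residue R))) :=
    IsClosedImmersion.spec_of_surjective _ residue_surjective
  haveI : IsClosedImmersion i := MorphismProperty.pullback_fst (P := @IsClosedImmersion) _ _ inferInstance
  haveI := EtSite.preservesFiniteLimits_pull i
  have hi : Dominant i := fun q G hG => Groth.L27.PBC.bijective_closedFibre f q G hG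
  have hix : ∀ y, f (i y) = closedPoint R := fun y => by
    rw [← Scheme.Hom.comp_apply, pullback.condition, Scheme.Hom.comp_apply]
    refine Eq.trans (congrArg _ (Subsingleton.elim _ (closedPoint (ResidueField R)))) ?_
    exact IsLocalRing.comap_closedPoint (residue R)
  -- acyclicity at the points of the closed fibre
  have key : ∀ y (RX : Type u) [CommRing RX] [HenselianLocalRing RX] [IsSepClosed (ResidueField RX)]
      [Algebra (X.presheaf.stalk (i y)) RX] [IsLocalHom (algebraMap (X.presheaf.stalk (i y)) RX)]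
      [Hensel.IsStrictHenselization (X.presheaf.stalk (i y)) RX],
      Function.Bijective ((EtCoh.stalk (Hens2.geomPt X (i y) RX)).map ((EtCoh.pullPushAdj j).unit.app F)) ∧
      ∀ q : ℕ, 0 < q → q ≤ n →
        IsZero ((EtCoh.stalk (Hens2.geomPt X (i y) RX)).obj ((EtCoh.Rpush j q).obj ((EtCoh.pull j).obj F))) := by
    intro y RX _ _ _ _ _ _
    let S := Spec (CommRingCat.of R)
    let η := Hens2.specOf X (i y) RX
    letI : Algebra (S.presheaf.stalk ((𝟙 S : S ⟶ S) (closedPoint R))) R :=
      (Scheme.stalkClosedPointTo (𝟙 S)).hom.toAlgebra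
    obtain ⟨_, _⟩ := isStrictHenselization_closedPointTo R (𝟙 S)
    have hac : ∀ (s : S) (hs : f (i y) = s) [Algebra (S.presheaf.stalk s) R]
        [IsLocalHom (algebraMap (S.presheaf.stalk s) R)] [Hensel.IsStrictHenselization (S.presheaf.stalk s) R],
        Hens2.specOf S s R = 𝟙 S → ∃ (_ : Algebra R RX),
          η ≫ f = Spec.map (CommRingCat.ofHom (algebraMap R RX)) ∧
            EtAcyc.IsAcyclicN (Spec.map (CommRingCat.ofHom (algebraMap R RX))) L n := by
      intro s hs _ _ _ hspec
      subst hs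
      obtain ⟨ψ, _, hψ⟩ := StalkBC.exists_strictMap f (i y) R RX
      letI : Algebra R RX := ψ.toAlgebra
      haveI : IsLocalHom (algebraMap R RX) := ‹IsLocalHom ψ›
      refine ⟨inferInstance, ?_, hf (i y) R RX hψ⟩
      exact (StalkBC.specOf_comp f (i y) R RX ψ hψ).symm.trans ((congrArg (_ ≫ ·) hspec).trans (Category.comp_id _))
    have hpt : f (i y) = (𝟙 S : S ⟶ S) (closedPoint R) := hix y
    obtain ⟨iA, hηf, hacyc⟩ := hac _ hpt (Scheme.Spec_stalkClosedPointTo_fromSpecStalk (𝟙 S))
    let k := pullback.snd j η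
    let fΩ := pullback.fst j η ≫ pullback.snd f t
    have cZ : IsPullback k fΩ (Spec.map (CommRingCat.ofHom (algebraMap R RX))) t := by
      have h := (IsPullback.of_hasPullback j η).flip.paste_vert (IsPullback.of_hasPullback f t)
      rw [hηf] at h
      exact h
    obtain ⟨hne, hconn, hvan⟩ := isAcyclicScheme_of_iso cZ.isoPullback.hom
      (FinBC.geomFibres_of_isAcyclicN _ L hL n hacyc y₁ Ω)
    haveI : QuasiCompact k := MorphismProperty.pullback_snd (P := @QuasiCompact) _ _ inferInstance
    haveI : QuasiSeparated k := MorphismProperty.pullback_snd (P := @QuasiSeparated) _ _ inferInstance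
    haveI : CompactSpace ↥(pullback j η) := QuasiCompact.compactSpace_of_compactSpace k
    haveI : QuasiSeparatedSpace ↥(pullback j η) := quasiSeparatedSpace_of_quasiSeparated k
    haveI := EtSite.preservesFiniteLimits_pull k
    haveI := EtSite.preservesFiniteLimits_pull η
    obtain ⟨A, ⟨α⟩⟩ := FinBC.exists_iso_K RX (L28.LocConst.isLocallyConstant_pull η F hlc)
    haveI : ConnectedSpace ↥(Spec (CommRingCat.of RX)) := FinBC.connectedSpace_local RX
    have hηF : EtAcyc.IsLTorsion L ((EtCoh.pull η).obj F) := L28.AcyComp.isLTorsion_pull η hF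
    have hA : ∀ a : A, ∃ m, EtAcyc.PrimesIn L m ∧ m • a = 0 :=
      FinBC.exists_nsmul_eq_zero_of_isLTorsion_K (X := Spec (CommRingCat.of RX)) (L28.EtTor.isLTorsion_iff_stalks.2
        fun Ω' _ _ ξ v => by
          obtain ⟨m, hm, h0⟩ := L28.EtTor.isLTorsion_iff_stalks.1 hηF Ω' ξ ((EtCoh.stalk ξ).map α.inv v)
          refine ⟨m, hm, (ConcreteCategory.bijective_of_isIso ((EtCoh.stalk ξ).map α.inv)).1 ?_⟩
          exact (map_nsmul ((EtCoh.stalk ξ).map α.inv).hom m v).trans (h0.trans (map_zero _).symm))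
    refine stalk_acyclic_le j (i y) RX F n fun q hq => ?_
    refine bijective_Hpull_congr k α.symm q ?_
    rcases Nat.eq_zero_or_pos q with rfl | hq0
    · exact bijective_Hpull_zero_K k A
    · haveI := EtSite.subsingleton_H RX (ConstSect.K A _) q hq0
      haveI : Subsingleton (EtCoh.H (pullback j η) (ConstSect.K A (pullback j η)) q) :=
        subsingleton_H_K (fun ℓ hℓ hℓL => hvan ℓ hℓ hℓL q hq0 hq) A hA
      haveI : Subsingleton (EtCoh.H (pullback j η) ((EtCoh.pull k).obj (ConstSect.K A _)) q) :=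
        @Equiv.subsingleton _ _ ((EtCoh.HF (pullback j η) q).mapIso ((EtCore.pullConstIso k).app A)).addCommGroupIsoToAddEquiv.toEquiv this
      exact ⟨fun _ _ _ => Subsingleton.elim _ _, fun b => ⟨0, Subsingleton.elim _ _⟩⟩
  have hG : EtAcyc.IsLTorsion L ((EtCoh.pull j).obj F) := L28.AcyComp.isLTorsion_pull j hF
  obtain ⟨hb, hinj⟩ := edge_dominant j i hi L n _ hG
    (fun y RX _ _ _ _ _ _ q h1 h2 => (key y RX).2 q h1 h2)
  have hu : ∀ q, Function.Bijective ((EtCoh.HF X q).map ((EtCoh.pullPushAdj j).unit.app F)) := fun q => by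
    refine bijective_HF_of_dominant i hi _ L hF (CompTransfer.isLTorsion_push L j hG) (fun y => ?_) q
    obtain ⟨RX, _, _, _, _, hR⟩ := L05.Henselization.exists_isStrictHenselization (X.presheaf.stalk (i y))
    haveI := hR
    obtain ⟨_, _⟩ := StalkBC.henselian_strict (i y) RX
    refine ⟨ResidueField RX, inferInstance, inferInstance, Hens2.geomPt X (i y) RX, ?_, (key y RX).1⟩
    refine (Scheme.Hom.comp_apply _ _ _).trans (Eq.trans
      (congrArg (Hens2.specOf X (i y) RX) ?_) (specOf_closedPoint (i y) RX))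
    rw [Subsingleton.elim (default : Spec (CommRingCat.of (ResidueField RX))) (closedPoint (ResidueField RX))]
    exact IsLocalRing.comap_closedPoint (residue RX)
  have he : ∀ q, (EtCore.Hpull j F q : _ → _) =
      EtLim.HofPush j ((EtCoh.pull j).obj F) q ∘ Sheaf.H.map ((EtCoh.pullPushAdj j).unit.app F) q :=
    fun q => funext fun e => EtSite.Hpull_apply j F q e
  refine ⟨fun q hq => ?_, ?_⟩
  · rw [he q]; exact (hb q hq).comp (hu q)
  · rw [he (n + 1)]; exact hinj.comp (hu (n + 1)).1

end Groth.L27.XV
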