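import Groth.Agent.L27.FinBC.FibreAcyclicN
import Groth.Agent.L05.WE.Fibre
import Groth.Agent.L27.StalkBC.Criterion

/-! # Base change of local acyclicity and of acyclic geometric fibres along weakly etale maps -/

universe u

open CategoryTheory CategoryTheory.Limits AlgebraicGeometry Opposite IsLocalRing

set_option backward.isDefEq.respectTransparency.types false
set_option linter.style.haveILetI false
set_option linter.unusedSectionVars false

noncomputable section

namespace Groth.L27.XV

open Groth.L27.LimCoh Groth.L27.LimBC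

/-- Properties of all strict localizations pass along weakly etale maps. -/
theorem onStrict_transfer {P : ∀ ⦃A B : Scheme.{u}⦄, (A ⟶ B) → Prop} {X Y X' Y' : Scheme.{u}}
    {g : X ⟶ Y} {g' : X' ⟶ Y'} (u : X' ⟶ X) [WeaklyEtale u] (v : Y' ⟶ Y) [WeaklyEtale v]
    (w : u ≫ g = g' ≫ v) (H : EtAcyc.OnStrictLocalizations g P) : EtAcyc.OnStrictLocalizations g' P := by
  intro x' RY RX _ _ _ _ _ _ _ _ _ _ _ _ hcomp
  obtain ⟨_, _⟩ := StalkBC.henselian_strict (g'.base x') RY
  obtain ⟨_, _⟩ := StalkBC.henselian_strict x' RX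
  let a := Hens2.specOf Y' (g'.base x') RY ≫ v
  let b := Hens2.specOf X' x' RX ≫ u
  haveI : WeaklyEtale (Hens2.specOf Y' (g'.base x') RY) := Acyclic0.weaklyEtale_fromStrict _ RY
  haveI : WeaklyEtale (Hens2.specOf X' x' RX) := Acyclic0.weaklyEtale_fromStrict x' RX
  letI : Algebra (Y.presheaf.stalk (a (closedPoint RY))) RY := (Scheme.stalkClosedPointTo a).hom.toAlgebra
  obtain ⟨_, hRS⟩ := isStrictHenselization_closedPointTo RY a
  let x := b (closedPoint RX)
  letI : Algebra (X.presheaf.stalk x) RX := (Scheme.stalkClosedPointTo b).hom.toAlgebra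
  obtain ⟨_, hAX⟩ := isStrictHenselization_closedPointTo RX b
  have hwab : b ≫ g = Spec.map (CommRingCat.ofHom (algebraMap RY RX)) ≫ a := by
    show (Hens2.specOf X' x' RX ≫ u) ≫ g = _ ≫ Hens2.specOf Y' (g'.base x') RY ≫ v
    rw [Category.assoc, w, ← Category.assoc, ← Category.assoc,
      StalkBC.specOf_comp g' x' RY RX (algebraMap RY RX) hcomp]
  have hsx : g x = a (closedPoint RY) := by
    refine (Scheme.Hom.comp_apply b g _).symm.trans ?_
    rw [hwab, Scheme.Hom.comp_apply]
    exact congrArg a (IsLocalRing.comap_closedPoint (algebraMap RY RX))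
  have key : ∀ (s : Y) (hs : g x = s) [Algebra (Y.presheaf.stalk s) RY]
      [IsLocalHom (algebraMap (Y.presheaf.stalk s) RY)] [Hensel.IsStrictHenselization (Y.presheaf.stalk s) RY],
      Hens2.specOf Y s RY = a → P (Spec.map (CommRingCat.ofHom (algebraMap RY RX))) := by
    intro s hs _ _ _ hspec
    subst hs
    have hx : Hens2.specOf X x RX = b := Scheme.Spec_stalkClosedPointTo_fromSpecStalk b
    have hc : (algebraMap RY RX).comp (algebraMap (Y.presheaf.stalk (g x)) RY) =
        (algebraMap (X.presheaf.stalk x) RX).comp (g.stalkMap x).hom := by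
      have h : CommRingCat.ofHom (algebraMap (Y.presheaf.stalk (g x)) RY) ≫ CommRingCat.ofHom (algebraMap RY RX) =
          g.stalkMap x ≫ CommRingCat.ofHom (algebraMap (X.presheaf.stalk x) RX) := by
        apply Spec.map_injective
        rw [← cancel_mono (Y.fromSpecStalk (g x)), Spec.map_comp, Spec.map_comp, Category.assoc, Category.assoc,
          Scheme.SpecMap_stalkMap_fromSpecStalk]
        exact (congrArg (_ ≫ ·) hspec).trans (hwab.symm.trans ((congrArg (· ≫ g) hx.symm).trans (Category.assoc _ _ _)))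
      exact congrArg CommRingCat.Hom.hom h
    exact H x RY RX hc
  exact key _ hsx (Scheme.Spec_stalkClosedPointTo_fromSpecStalk a)

/-- All residue field extensions are algebraic. -/
def AlgResidue {X Y : Scheme.{u}} (f : X ⟶ Y) : Prop := ∀ x : X, (f.residueFieldMap x).hom.IsIntegral

theorem algResidue_comp {X Y Z : Scheme.{u}} {f : X ⟶ Y} {g : Y ⟶ Z} (hf : AlgResidue f) (hg : AlgResidue g) :
    AlgResidue (f ≫ g) := fun x => by
  rw [Scheme.residueFieldMap_comp]
  exact RingHom.IsIntegral.trans _ _ (hg (f x)) (hf x)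

theorem algResidue_etale {X Y : Scheme.{u}} (f : X ⟶ Y) [Etale f] : AlgResidue f := fun x => by
  letI : Algebra (Y.residueField (f x)) (X.residueField x) := (f.residueFieldMap x).hom.toAlgebra
  haveI : Algebra.IsSeparable (Y.residueField (f x)) (X.residueField x) := inferInstance
  exact algebraMap_isIntegral_iff.2 inferInstance

theorem algResidue_openImmersion {X Y : Scheme.{u}} (f : X ⟶ Y) [IsOpenImmersion f] : AlgResidue f := fun x =>
  RingHom.isIntegral_of_surjective _ (ConcreteCategory.bijective_of_isIso (f.residueFieldMap x)).2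

theorem algResidue_specMap {A B : Type u} [CommRing A] [CommRing B] [Algebra A B] [Algebra.WeaklyEtale A B] :
    AlgResidue (Spec.map (CommRingCat.ofHom (algebraMap A B))) := fun x => by
  let φ := CommRingCat.ofHom (algebraMap A B)
  let f := Spec.map φ
  let p := (f x).asIdeal
  let q := x.asIdeal
  let ψ : CommRingCat.of p.ResidueField ⟶ CommRingCat.of q.ResidueField :=
    (Scheme.Spec.residueFieldIso (CommRingCat.of A) (f x)).inv ≫ f.residueFieldMap x ≫
      (Scheme.Spec.residueFieldIso (CommRingCat.of B) x).hom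
  letI : Algebra p.ResidueField q.ResidueField := ψ.hom.toAlgebra
  have hψ : CommRingCat.ofHom (algebraMap A p.ResidueField) ≫ ψ = φ ≫ CommRingCat.ofHom (algebraMap B q.ResidueField) := by
    have e : CommRingCat.ofHom (algebraMap B q.ResidueField) =
        ((Scheme.ΓSpecIso (CommRingCat.of B)).inv ≫ (Spec (CommRingCat.of B)).presheaf.germ ⊤ x trivial ≫
          (Spec (CommRingCat.of B)).residue x) ≫ (Scheme.Spec.residueFieldIso (CommRingCat.of B) x).hom := by
      rw [← Scheme.Spec.algebraMap_residueFieldIso_inv, Category.assoc, Iso.inv_hom_id, Category.comp_id]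
    refine (Scheme.Spec.algebraMap_residueFieldIso_inv_assoc (CommRingCat.of A) (f x) _).trans ?_
    rw [e]
    simp only [Category.assoc]
    rw [Scheme.residue_residueFieldMap_assoc, Scheme.Hom.germ_stalkMap_assoc,
      Scheme.ΓSpecIso_inv_naturality_assoc]
    rfl
  haveI : IsScalarTower A p.ResidueField q.ResidueField := IsScalarTower.of_algebraMap_eq' <| by
    rw [IsScalarTower.algebraMap_eq A B q.ResidueField]
    exact (congrArg CommRingCat.Hom.hom hψ).symm
  haveI := Groth.L05.WE.isSeparable_residueField_of_weaklyEtale (A := A) (B := B) p q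
  have hψi : ψ.hom.IsIntegral := algebraMap_isIntegral_iff.2 (inferInstance : Algebra.IsIntegral p.ResidueField q.ResidueField)
  have h1 : f.residueFieldMap x = (Scheme.Spec.residueFieldIso (CommRingCat.of A) (f x)).hom ≫ ψ ≫
      (Scheme.Spec.residueFieldIso (CommRingCat.of B) x).inv := by
    simp [ψ]
  show (f.residueFieldMap x).hom.IsIntegral
  rw [h1]
  refine RingHom.IsIntegral.trans _ _
    (RingHom.isIntegral_of_surjective _
      (ConcreteCategory.bijective_of_isIso (Scheme.Spec.residueFieldIso (CommRingCat.of A) (f x)).hom).2) ?_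
  exact RingHom.IsIntegral.trans _ _ hψi (RingHom.isIntegral_of_surjective _
    (ConcreteCategory.bijective_of_isIso (Scheme.Spec.residueFieldIso (CommRingCat.of B) x).inv).2)

theorem algResidue_specOf {Y : Scheme.{u}} (y : Y) (R : Type u) [CommRing R] [IsLocalRing R]
    [Algebra (Y.presheaf.stalk y) R] [IsLocalHom (algebraMap (Y.presheaf.stalk y) R)]
    [Hensel.IsStrictHenselization (Y.presheaf.stalk y) R] : AlgResidue (Hens2.specOf Y y R) := by
  obtain ⟨U, hU, hyU, -⟩ := exists_isAffineOpen_mem_and_subset (X := Y) (x := y) (U := ⊤) trivial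
  letI : Algebra Γ(Y, U) R := ((algebraMap (Y.presheaf.stalk y) R).comp (Y.presheaf.germ U y hyU).hom).toAlgebra
  haveI : Algebra.WeaklyEtale Γ(Y, U) R := Acyclic0.weaklyEtale_strict hU hyU R
  have e : Hens2.specOf Y y R = Spec.map (CommRingCat.ofHom (algebraMap Γ(Y, U) R)) ≫ hU.fromSpec := by
    show Spec.map _ ≫ Y.fromSpecStalk y = _
    rw [← hU.fromSpecStalk_eq_fromSpecStalk hyU, IsAffineOpen.fromSpecStalk, ← Spec.map_comp_assoc]
    rfl
  rw [e]
  exact algResidue_comp algResidue_specMap (algResidue_openImmersion _)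

/-- Acyclic schemes are invariant under isomorphism. -/
theorem isAcyclicScheme_of_iso {L : Set ℕ} {n : ℕ} {U V : Scheme.{u}} (e : U ⟶ V) [IsIso e]
    (h : EtAcyc.IsAcyclicSchemeN L n V) : EtAcyc.IsAcyclicSchemeN L n U := by
  obtain ⟨h1, h2, h3⟩ := h
  let φ : U ≃ₜ V := e.homeomorph
  refine ⟨⟨φ.symm (Classical.arbitrary V)⟩, ?_, fun ℓ hℓ hℓL q hq1 hqn => ?_⟩
  · exact φ.symm.surjective.connectedSpace φ.symm.continuous
  · obtain ⟨ε⟩ := FinBC.nonempty_constEquiv e ℓ q
    haveI := h3 ℓ hℓ hℓL q hq1 hqn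
    exact ε.symm.toEquiv.subsingleton

/-- Acyclicity of geometric fibres passes along base changes with algebraic residue extensions. -/
theorem geomFibres_transfer {L : Set ℕ} {n : ℕ} {X Y X' Y' : Scheme.{u}} {g : X ⟶ Y} {g' : X' ⟶ Y'}
    {u : X' ⟶ X} {v : Y' ⟶ Y} (c : IsPullback u g' g v) (hv : AlgResidue v)
    (H : EtAcyc.GeomFibresAcyclicN L n g) : EtAcyc.GeomFibresAcyclicN L n g' := by
  intro w Ω _ _ algΩ halg
  letI : Algebra (Y.residueField (v w)) Ω :=
    ((algebraMap (Y'.residueField w) Ω).comp (v.residueFieldMap w).hom).toAlgebra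
  haveI : Algebra.IsAlgebraic (Y.residueField (v w)) Ω := by
    haveI : Algebra.IsIntegral (Y.residueField (v w)) Ω := algebraMap_isIntegral_iff.1
      (RingHom.IsIntegral.trans _ _ (hv w) (algebraMap_isIntegral_iff.2 (inferInstance :
        Algebra.IsIntegral (Y'.residueField w) Ω)))
    infer_instance
  have e : EtAcyc.geomPt Y' w Ω ≫ v = EtAcyc.geomPt Y (v w) Ω := by
    show (Spec.map _ ≫ Y'.fromSpecResidueField w) ≫ v = Spec.map _ ≫ Y.fromSpecResidueField (v w)
    rw [Category.assoc, ← Scheme.Hom.SpecMap_residueFieldMap_fromSpecResidueField, ← Spec.map_comp_assoc]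
    rfl
  have c' := (IsPullback.of_hasPullback g' (EtAcyc.geomPt Y' w Ω)).flip.paste_vert c.flip
  rw [e] at c'
  exact isAcyclicScheme_of_iso c'.flip.isoPullback.hom (H (v w) Ω)

theorem geomFibres_mono {L : Set ℕ} {m n : ℕ} (hmn : m ≤ n) {X Y : Scheme.{u}} {g : X ⟶ Y}
    (H : EtAcyc.GeomFibresAcyclicN L n g) : EtAcyc.GeomFibresAcyclicN L m g := by
  intro y Ω _ _ _ _
  obtain ⟨h1, h2, h3⟩ := H y Ω
  exact ⟨h1, h2, fun ℓ hℓ hℓL q hq hqm => h3 ℓ hℓ hℓL q hq (hqm.trans hmn)⟩

theorem compN_mono {L : Set ℕ} {m n : ℕ} (hmn : m ≤ n) {X Y : Scheme.{u}} {g : X ⟶ Y}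
    (H : EtAcyc.CompN g L n) : EtAcyc.CompN g L m := fun F hF _ => by
  obtain ⟨hb, hi⟩ := H F hF
  refine ⟨fun q hq => hb q (hq.trans hmn), ?_⟩
  rcases Nat.eq_or_lt_of_le hmn with rfl | h
  · exact hi
  · exact (hb (m + 1) h).1

theorem isLocAcyclicN_mono {L : Set ℕ} {m n : ℕ} (hmn : m ≤ n) {X Y : Scheme.{u}} {g : X ⟶ Y}
    (H : EtAcyc.IsLocAcyclicN g L n) : EtAcyc.IsLocAcyclicN g L m :=
  fun x RY RX _ _ _ _ _ _ _ _ _ _ _ _ hc V => compN_mono hmn (H x RY RX hc V)

/-- The hypothesis that strict localizations are surjective on spectra. -/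
def SurjStrict {X Y : Scheme.{u}} (g : X ⟶ Y) : Prop :=
  EtAcyc.OnStrictLocalizations g (fun _ _ h => Function.Surjective h.base)

end Groth.L27.XV
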