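import Groth.Agent.L27.StalkBC.ConstReduce
import Groth.Agent.L27.PBC.CurveConst
import Groth.Agent.L27.LimCoh.HMaps
import Groth.Agent.L27.NormalSepClosed.ConstSect
import Groth.Prelude.Def_EtAcyc
import Mathlib.GroupTheory.Perm.Cycle.Type
import Mathlib.GroupTheory.QuotientGroup.Finite

/-! # Cohomology of constant torsion coefficients from prime order coefficients -/

universe u

open CategoryTheory CategoryTheory.Limits AlgebraicGeometry Opposite CategoryTheory.Abelian

set_option backward.isDefEq.respectTransparency.types false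
set_option linter.style.haveILetI false
set_option linter.unusedSectionVars false

noncomputable section

namespace Groth.L27.XV

open Groth.L27.LimCoh

variable {W : Scheme.{u}} {L : Set ℕ} {q : ℕ}
  (hℓ : ∀ ℓ : ℕ, ℓ.Prime → ℓ ∈ L → Subsingleton (EtCoh.H W (EtCoh.const W (ZMod ℓ)) q))

include hℓ in
theorem subsingleton_H_K_finite : ∀ (n : ℕ) (A : AddCommGrpCat.{u + 1}) [Finite A], Nat.card A = n →
    (∀ a : A, ∃ m, EtAcyc.PrimesIn L m ∧ m • a = 0) → Subsingleton (EtCoh.H W (ConstSect.K A W) q) := by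
  intro n
  induction n using Nat.strong_induction_on with
  | _ n ih =>
    intro A _ hn hA
    haveI : PreservesFiniteLimits (constantSheaf W.smallEtaleTopology AddCommGrpCat.{u + 1}) :=
      comp_preservesFiniteLimits (Functor.const W.Etaleᵒᵖ) (presheafToSheaf W.smallEtaleTopology AddCommGrpCat.{u + 1})
    haveI := (EtCore.constAdj W).leftAdjoint_preservesColimits
    haveI := PBC.const_additive W
    rcases Nat.lt_or_ge 1 n with hgt | hle
    swap
    · haveI : Subsingleton A := (Finite.card_le_one_iff_subsingleton).1 (hn ▸ hle)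
      exact AddCommGrpCat.subsingleton_of_isZero ((EtCoh.HF W q).map_isZero
        ((constantSheaf W.smallEtaleTopology AddCommGrpCat.{u + 1}).map_isZero
          (AddCommGrpCat.isZero_of_subsingleton A)))
    obtain ⟨ℓ, hℓp, hdvd⟩ := Nat.exists_prime_and_dvd (show n ≠ 1 by omega)
    haveI : Fact ℓ.Prime := ⟨hℓp⟩
    obtain ⟨x, hx⟩ := exists_prime_addOrderOf_dvd_card' (G := A) ℓ (hn ▸ hdvd)
    have hℓL : ℓ ∈ L := by
      obtain ⟨m, ⟨-, hm⟩, hmx⟩ := hA x
      exact hm ℓ hℓp (hx ▸ addOrderOf_dvd_of_nsmul_eq_zero hmx)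
    let S := AddSubgroup.zmultiples x
    have hS : Nat.card S = ℓ := by rw [Nat.card_zmultiples, hx]
    haveI : IsAddCyclic S := inferInstance
    let e : ZMod ℓ ≃+ S :=
      ((ZMod.ringEquivCongr hS.symm).toAddEquiv.trans (zmodAddCyclicAddEquiv (G := S) inferInstance))
    let f : AddCommGrpCat.of (ULift.{u + 1} (ZMod ℓ)) ⟶ A :=
      AddCommGrpCat.ofHom ((S.subtype.comp e.toAddMonoidHom).comp AddEquiv.ulift.toAddMonoidHom)
    let g : A ⟶ AddCommGrpCat.of (A ⧸ S) := AddCommGrpCat.ofHom (QuotientAddGroup.mk' S)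
    have w : f ≫ g = 0 := AddCommGrpCat.hom_ext (AddMonoidHom.ext fun z =>
      (QuotientAddGroup.eq_zero_iff _).2 (e z.down).2)
    let E₀ := ShortComplex.mk f g w
    have hE₀ : E₀.ShortExact :=
      { exact := (ShortComplex.ab_exact_iff E₀).2 fun a ha =>
          ⟨ULift.up (e.symm ⟨a, (QuotientAddGroup.eq_zero_iff a).1 ha⟩), by
            show S.subtype (e (e.symm _)) = a
            rw [e.apply_symm_apply]
            rfl⟩
        mono_f := (AddCommGrpCat.mono_iff_injective f).2 fun a b h => ULift.ext _ _ (e.injective (Subtype.ext h))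
        epi_g := (AddCommGrpCat.epi_iff_surjective g).2 (QuotientAddGroup.mk'_surjective S) }
    have hE := hE₀.map_of_exact (constantSheaf W.smallEtaleTopology AddCommGrpCat.{u + 1})
    have hlt : Nat.card (A ⧸ S) < n := by
      have h1 := AddSubgroup.card_eq_card_quotient_mul_card_addSubgroup S
      rw [hS, hn] at h1
      have h2 : 0 < Nat.card (A ⧸ S) := Nat.card_pos
      nlinarith [hℓp.two_le]
    haveI : Subsingleton (EtCoh.H W (ConstSect.K (AddCommGrpCat.of (A ⧸ S)) W) q) := by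
      refine ih _ hlt (AddCommGrpCat.of (A ⧸ S)) rfl fun b => ?_
      obtain ⟨a, rfl⟩ := QuotientAddGroup.mk'_surjective S b
      obtain ⟨m, hm, hma⟩ := hA a
      exact ⟨m, hm, by rw [← map_nsmul, hma, map_zero]⟩
    haveI := hℓ ℓ hℓp hℓL
    refine subsingleton_of_forall_eq 0 fun y => ?_
    obtain ⟨z, hz⟩ := Ext.covariant_sequence_exact₂ _ hE y (Subsingleton.elim
      (α := EtCoh.H W (ConstSect.K (AddCommGrpCat.of (A ⧸ S)) W) q) _ _)
    rw [← hz, show z = (0 : EtCoh.H W (EtCoh.const W (ZMod ℓ)) q) from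
      Subsingleton.elim (α := EtCoh.H W (EtCoh.const W (ZMod ℓ)) q) z 0]
    exact Ext.zero_comp _ _ _ _ _

include hℓ in
/-- Torsion constant coefficients are acyclic when prime order coefficients are. -/
theorem subsingleton_H_K [CompactSpace W] [QuasiSeparatedSpace W] (A : AddCommGrpCat.{u + 1})
    (hA : ∀ a : A, ∃ m, EtAcyc.PrimesIn L m ∧ m • a = 0) : Subsingleton (EtCoh.H W (ConstSect.K A W) q) := by
  classical
  let Ψ := constantSheaf W.smallEtaleTopology AddCommGrpCat.{u + 1}
  haveI := (EtCore.constAdj W).leftAdjoint_preservesColimits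
  haveI : PreservesColimitsOfSize.{u + 1, u + 1} Ψ := (EtCore.constAdj W).leftAdjoint_preservesColimits
  haveI : IsFiltered (Finset A) := inferInstance
  have hc : IsColimit (Ψ.mapCocone (StalkBC.subC A)) := isColimitOfPreserves Ψ (StalkBC.isColimitSubC A)
  refine subsingleton_of_forall_eq 0 fun ξ => ?_
  obtain ⟨s, η, hη⟩ := (L10.BigColim.ExtRep.commutes Colim.good
    (StalkBC.repTop W) (T := EtCoh.top W) ⟨‹_›, ‹_›⟩ q (StalkBC.subD A ⋙ Ψ) _ hc).1 ξ
  haveI : AddGroup.FG ((StalkBC.subD A).obj s) := (AddGroup.fg_iff_addSubgroup_fg _).2 ⟨s, rfl⟩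
  have hs : ∀ x : (StalkBC.subD A).obj s, ∃ m, EtAcyc.PrimesIn L m ∧ m • x = 0 := fun x => by
    obtain ⟨m, hm, h0⟩ := hA x.1
    exact ⟨m, hm, Subtype.ext h0⟩
  haveI : Finite ((StalkBC.subD A).obj s) := AddCommGroup.finite_of_fg_isAddTorsion _ fun x => by
    obtain ⟨m, hm, h0⟩ := hs x
    exact isOfFinAddOrder_iff_nsmul_eq_zero.2 ⟨m, hm.1, h0⟩
  haveI := subsingleton_H_K_finite hℓ _ ((StalkBC.subD A).obj s) rfl hs
  rw [← hη, show η = (0 : EtCoh.H W (Ψ.obj ((StalkBC.subD A).obj s)) q) from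
    Subsingleton.elim (α := EtCoh.H W (Ψ.obj ((StalkBC.subD A).obj s)) q) η 0]
  exact map_zero _

end Groth.L27.XV
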