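import Groth.Agent.L27.XV.Transfer
import Groth.Agent.L27.XV.ConstDevissage
import Groth.Agent.L27.XV.BaseZero
import Groth.Agent.L27.FinBC.LA
import Groth.Agent.L27.FinBC.GenericTools
import Groth.Agent.L27.FinBC.Generic

/-! # Restriction to the geometric generic fibre over an absolutely integrally closed domain -/

universe u

open CategoryTheory CategoryTheory.Limits AlgebraicGeometry Opposite IsLocalRing Abelian
open scoped TensorProduct

set_option backward.isDefEq.respectTransparency.types false
set_option linter.style.haveILetI false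
set_option linter.unusedSectionVars false

noncomputable section

namespace Groth.L27.XV

open Groth.L27.LimCoh Groth.L27.LimBC Groth.L27.FinBC

/-- Acyclicity at all points in a range of degrees gives injectivity one degree beyond. -/
theorem injective_of_stalks {U W : Scheme.{u}} (h : U ⟶ W) [PreservesFiniteLimits (EtCoh.pull h)]
    (M : EtCoh.Ab W) (m : ℕ)
    (H : ∀ y : W, ∃ (K : Type u) (_ : Field K) (_ : IsSepClosed K) (ξ : Spec (CommRingCat.of K) ⟶ W),
      ξ.base default = y ∧ Function.Bijective ((EtCoh.stalk ξ).map ((EtCoh.pullPushAdj h).unit.app M)) ∧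
      ∀ q : ℕ, 0 < q → q ≤ m → IsZero ((EtCoh.stalk ξ).obj ((EtCoh.Rpush h q).obj ((EtCoh.pull h).obj M)))) :
    Function.Injective (EtCore.Hpull h M (m + 1)) := by
  let φ := (EtCoh.pullPushAdj h).unit.app M
  haveI : Mono φ := by
    have : Sheaf.IsLocallyInjective φ := EtSite.isLocallyInjective_of_some_stalks _ fun y => by
      obtain ⟨K, _, _, ξ, hξ, hb, -⟩ := H y
      exact ⟨K, _, inferInstance, ξ, hξ, hb.1⟩
    exact Sheaf.mono_of_isLocallyInjective _
  haveI : Epi φ :=
    (Sheaf.isLocallySurjective_iff_epi' (φ := φ)).1 (EtSite.isLocallySurjective_of_some_stalks _ fun y => by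
      obtain ⟨K, _, _, ξ, hξ, hb, -⟩ := H y
      exact ⟨K, _, inferInstance, ξ, hξ, hb.2⟩)
  haveI : IsIso φ := isIso_of_mono_of_epi φ
  exact (L28.AcycCrit.compN_of_unit h M m fun p h1 h2 => EtSite.isZero_of_stalks _ fun y => by
    obtain ⟨K, _, _, ξ, hξ, -, hz⟩ := H y
    exact ⟨K, _, inferInstance, ξ, hξ, hz p h1 h2⟩).2

/-- Local acyclicity seen on weakly etale strictly local charts. -/
theorem acyclic_of_loc {X Y : Scheme.{u}} (g : X ⟶ Y) (L : Set ℕ) (m : ℕ) (hloc : EtAcyc.IsLocAcyclicN g L m)
    (RY RX : Type u) [CommRing RY] [HenselianLocalRing RY] [IsSepClosed (ResidueField RY)] [CommRing RX]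
    [HenselianLocalRing RX] [IsSepClosed (ResidueField RX)] [Algebra RY RX] [IsLocalHom (algebraMap RY RX)]
    (a : Spec (CommRingCat.of RY) ⟶ Y) [WeaklyEtale a] (b : Spec (CommRingCat.of RX) ⟶ X) [WeaklyEtale b]
    (hab : b ≫ g = Spec.map (CommRingCat.ofHom (algebraMap RY RX)) ≫ a) :
    EtAcyc.IsAcyclicN (Spec.map (CommRingCat.ofHom (algebraMap RY RX))) L m := by
  letI : Algebra (Y.presheaf.stalk (a (closedPoint RY))) RY := (Scheme.stalkClosedPointTo a).hom.toAlgebra
  obtain ⟨_, hRS⟩ := isStrictHenselization_closedPointTo RY a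
  let x := b (closedPoint RX)
  letI : Algebra (X.presheaf.stalk x) RX := (Scheme.stalkClosedPointTo b).hom.toAlgebra
  obtain ⟨_, hAX⟩ := isStrictHenselization_closedPointTo RX b
  have hsx : g x = a (closedPoint RY) := by
    refine (Scheme.Hom.comp_apply b g _).symm.trans ?_
    rw [hab, Scheme.Hom.comp_apply]
    exact congrArg a (IsLocalRing.comap_closedPoint (algebraMap RY RX))
  have key : ∀ (s : Y) (hs : g x = s) [Algebra (Y.presheaf.stalk s) RY]
      [IsLocalHom (algebraMap (Y.presheaf.stalk s) RY)] [Hensel.IsStrictHenselization (Y.presheaf.stalk s) RY],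
      Hens2.specOf Y s RY = a → EtAcyc.IsAcyclicN (Spec.map (CommRingCat.ofHom (algebraMap RY RX))) L m := by
    intro s hs _ _ _ hspec
    subst hs
    have hx : Hens2.specOf X x RX = b := Scheme.Spec_stalkClosedPointTo_fromSpecStalk b
    have hc : (algebraMap RY RX).comp (algebraMap (Y.presheaf.stalk (g x)) RY) =
        (algebraMap (X.presheaf.stalk x) RX).comp (g.stalkMap x).hom := by
      have h : CommRingCat.ofHom (algebraMap (Y.presheaf.stalk (g x)) RY) ≫ CommRingCat.ofHom (algebraMap RY RX) =
          g.stalkMap x ≫ CommRingCat.ofHom (algebraMap (X.presheaf.stalk x) RX) := by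
        apply Spec.map_injective
        rw [← cancel_mono (Y.fromSpecStalk (g x)), Spec.map_comp, Spec.map_comp, Category.assoc, Category.assoc,
          Scheme.SpecMap_stalkMap_fromSpecStalk]
        exact (congrArg (_ ≫ ·) hspec).trans (hab.symm.trans ((congrArg (· ≫ g) hx.symm).trans (Category.assoc _ _ _)))
      exact congrArg CommRingCat.Hom.hom h
    exact hloc x RY RX hc
  exact key _ hsx (Scheme.Spec_stalkClosedPointTo_fromSpecStalk a)

/-- Restriction to the geometric generic fibre is injective one degree beyond local acyclicity. -/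
theorem injective_Hpull_generic {R : Type u} [CommRing R] {X : Scheme.{u}} (g : X ⟶ Spec (CommRingCat.of R))
    (L : Set ℕ) (hL : ∃ ℓ ∈ L, ℓ.Prime) (m : ℕ) (hloc : EtAcyc.IsLocAcyclicN g L m)
    (N : Type u) [CommRing N] [IsDomain N] [Algebra R N] [Algebra.IsIntegral R N]
    (hroots : L20.IntCover.HasRoots N) {W : Scheme.{u}} (a : W ⟶ X) (bW : W ⟶ Spec (CommRingCat.of N))
    (cW : IsPullback a bW g (Spec.map (CommRingCat.ofHom (algebraMap R N))))
    (Ω : Type u) [Field Ω] [IsSepClosed Ω] [Algebra N Ω] (hinj : Function.Injective (algebraMap N Ω))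
    (z : Spec (CommRingCat.of R)) [Algebra ((Spec (CommRingCat.of R)).residueField z) Ω]
    [Algebra.IsAlgebraic ((Spec (CommRingCat.of R)).residueField z) Ω]
    (hz : EtAcyc.geomPt (Spec (CommRingCat.of R)) z Ω =
      Spec.map (CommRingCat.ofHom (algebraMap N Ω)) ≫ Spec.map (CommRingCat.ofHom (algebraMap R N)))
    {U : Scheme.{u}} (h : U ⟶ W) (bU : U ⟶ Spec (CommRingCat.of Ω))
    (cU : IsPullback h bU bW (Spec.map (CommRingCat.ofHom (algebraMap N Ω))))
    [PreservesFiniteLimits (EtCoh.pull h)] (KA : AddCommGrpCat.{u + 1})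
    (hA : ∀ t : KA, ∃ k, EtAcyc.PrimesIn L k ∧ k • t = 0) :
    Function.Injective (EtCore.Hpull h (ConstSect.K KA W) (m + 1)) := by
  let sR := Spec.map (CommRingCat.ofHom (algebraMap R N))
  haveI : IsIntegralHom sR := by
    rw [IsIntegralHom.SpecMap_iff]
    exact algebraMap_isIntegral_iff.mpr inferInstance
  haveI : IsAffineHom h := MorphismProperty.of_isPullback (P := @IsAffineHom) cU.flip inferInstance
  haveI : QuasiCompact h := inferInstance
  haveI : QuasiSeparated h := inferInstance
  let G : EtCoh.Ab W := ConstSect.K KA W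
  refine injective_of_stalks h G m (fun y => ?_)
  let n := bW y
  let O := (Spec (CommRingCat.of N)).presheaf.stalk n
  letI : Algebra N O := (StructureSheaf.toStalk N n).hom.toAlgebra
  haveI : IsLocalization.AtPrime O n.asIdeal := StructureSheaf.IsLocalization.to_stalk N n
  haveI : IsDomain O := IsLocalization.isDomain_of_le_nonZeroDivisors O n.asIdeal.primeCompl_le_nonZeroDivisors
  have hO : L20.IntCover.HasRoots O := L20.IntCover.hasRoots_localization hroots n.asIdeal.primeCompl
  haveI : HenselianLocalRing O := L20.IntCover.henselianLocalRing hO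
  haveI : IsAlgClosed (ResidueField O) := IsAlgClosed.of_exists_root _ fun p hp hirr => by
    obtain ⟨P, hP, hdeg, hmon⟩ := Polynomial.lifts_and_natDegree_eq_and_monic
      (Polynomial.map_surjective (residue O) IsLocalRing.residue_surjective p |> fun ⟨P, hP⟩ =>
        (⟨P, hP⟩ : p ∈ Polynomial.lifts (residue O))) hp
    obtain ⟨x, hx⟩ := hO P hmon (hdeg ▸ hirr.natDegree_pos)
    exact ⟨residue O x, by rw [← hP, Polynomial.eval_map, Polynomial.eval₂_at_apply, hx.eq_zero, map_zero]⟩
  haveI : IsLocalHom (algebraMap O O) := ⟨fun _ h => h⟩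
  let r := sR n
  obtain ⟨R', _, _, _, _, hR'⟩ := L05.Henselization.exists_isStrictHenselization
    ((Spec (CommRingCat.of R)).presheaf.stalk r)
  haveI := hR'
  obtain ⟨_, _⟩ := StalkBC.henselian_strict r R'
  haveI hOs : Hensel.IsStrictHenselization ((Spec (CommRingCat.of N)).presheaf.stalk n) O :=
    Groth.L05.HensTensor.isStrictHenselization_self O
  obtain ⟨φ, _, hφ⟩ := StalkBC.exists_strictMap sR n R' O
  have hφi := isIntegral_strictMap sR n R' O φ hφ
  letI : Algebra R' O := φ.toAlgebra
  haveI : IsLocalHom (algebraMap R' O) := inferInstanceAs (IsLocalHom φ)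
  haveI : Algebra.IsIntegral R' O := algebraMap_isIntegral_iff.mp hφi
  let ηr := Hens2.specOf (Spec (CommRingCat.of R)) r R'
  let ηn := Hens2.specOf (Spec (CommRingCat.of N)) n O
  haveI : WeaklyEtale ηr := Acyclic0.weaklyEtale_fromStrict r R'
  haveI : WeaklyEtale ηn := Acyclic0.weaklyEtale_fromStrict n O
  have hφη : Spec.map (CommRingCat.ofHom φ) ≫ ηr = ηn ≫ sR := StalkBC.specOf_comp sR n R' O φ hφ
  -- the base change to the strict localizations
  let pR := g
  let P' := pullback pR ηr
  let WO := pullback bW ηn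
  let w : WO ⟶ P' := pullback.lift (pullback.fst bW ηn ≫ a) (pullback.snd bW ηn ≫ Spec.map (CommRingCat.ofHom φ))
    (by
      rw [Category.assoc, cW.w, ← Category.assoc, pullback.condition, Category.assoc]
      exact (congrArg (pullback.snd bW ηn ≫ ·) hφη.symm).trans (Category.assoc _ _ _).symm)
  have cO : IsPullback w (pullback.snd bW ηn) (pullback.snd pR ηr) (Spec.map (CommRingCat.ofHom φ)) := by
    refine IsPullback.of_right (v₁₃ := pR) (h₁₂ := pullback.fst pR ηr) (h₂₂ := ηr) ?_ (pullback.lift_snd _ _ _)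
      (IsPullback.of_hasPullback pR ηr)
    exact isPullback_congr (pullback.lift_fst _ _ _).symm hφη.symm ((IsPullback.of_hasPullback bW ηn).paste_horiz cW)
  obtain ⟨y₁, hy₁, hy₁'⟩ := Scheme.Pullback.exists_preimage_pullback (f := bW) (g := ηn) y (closedPoint O)
    (specOf_closedPoint n O).symm
  let x₁ := w y₁
  have hx₁ : pullback.snd pR ηr x₁ = closedPoint R' := by
    rw [← Scheme.Hom.comp_apply, cO.w, Scheme.Hom.comp_apply]
    refine (congrArg (Spec.map (CommRingCat.ofHom φ)) hy₁').trans ?_
    exact IsLocalRing.comap_closedPoint φ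
  obtain ⟨Rx, _, _, _, _, hRx⟩ := L05.Henselization.exists_isStrictHenselization (P'.presheaf.stalk x₁)
  haveI := hRx
  obtain ⟨_, _⟩ := StalkBC.henselian_strict x₁ Rx
  let ηx := Hens2.specOf P' x₁ Rx
  haveI : WeaklyEtale ηx := Acyclic0.weaklyEtale_fromStrict x₁ Rx
  let ψ := Spec.preimage (ηx ≫ pullback.snd pR ηr)
  have hψ : Spec.map ψ = ηx ≫ pullback.snd pR ηr := Spec.map_preimage _
  haveI : IsLocalHom ψ.hom :=
    ((IsLocalRing.local_hom_TFAE ψ.hom).out 0 4).2 (PrimeSpectrum.ext_iff.1
      (show (Spec.map ψ) (closedPoint Rx) = closedPoint R' by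
        rw [hψ, Scheme.Hom.comp_apply, specOf_closedPoint]; exact hx₁))
  letI : Algebra R' Rx := ψ.hom.toAlgebra
  haveI : IsLocalHom (algebraMap R' Rx) := inferInstanceAs (IsLocalHom ψ.hom)
  -- the strictly henselian neighbourhood of y
  let A := Rx ⊗[R'] O
  haveI : IsLocalRing A := isLocalRing_tensor R' Rx O
  haveI : Algebra.IsIntegral Rx A := inferInstance
  haveI : HenselianLocalRing A := Groth.L05.henselianLocalRing_of_integral (A := Rx) A
  haveI : IsSepClosed (ResidueField A) := isSepClosed_residue Rx A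
  haveI := isLocalHom_of_integral Rx A
  let p₁ := Spec.map (CommRingCat.ofHom (algebraMap Rx A))
  let p₂ := Spec.map (CommRingCat.ofHom (Algebra.TensorProduct.includeRight (R := R') (A := Rx) (B := O)).toRingHom)
  have pbA : IsPullback p₁ p₂ (Spec.map ψ) (Spec.map (CommRingCat.ofHom φ)) :=
    isPullback_SpecMap_of_isPushout _ _ _ _ (CommRingCat.isPushout_tensorProduct R' Rx O)
  rw [hψ] at pbA
  let e := cO.lift (p₁ ≫ ηx) p₂ ((Category.assoc _ _ _).trans pbA.w)
  have hew : e ≫ w = p₁ ≫ ηx := cO.lift_fst _ _ _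
  have ce : IsPullback p₁ e ηx w :=
    IsPullback.of_bot (v₂₁ := pullback.snd bW ηn) (v₂₂ := pullback.snd pR ηr)
      (h₃₁ := Spec.map (CommRingCat.ofHom φ))
      (by rw [show e ≫ pullback.snd bW ηn = p₂ from cO.lift_snd _ _ _]; exact pbA) hew.symm cO
  haveI : WeaklyEtale e := MorphismProperty.of_isPullback (P := @WeaklyEtale) ce inferInstance
  haveI : WeaklyEtale (pullback.fst bW ηn) := MorphismProperty.pullback_fst _ _ inferInstance
  let eW : Spec (CommRingCat.of A) ⟶ W := e ≫ pullback.fst bW ηn
  haveI : WeaklyEtale eW := inferInstance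
  have hp₁ : p₁ (closedPoint A) = closedPoint Rx := IsLocalRing.comap_closedPoint (algebraMap Rx A)
  have hey : e (closedPoint A) = y₁ := by
    obtain ⟨z, hz1, hz2⟩ := Scheme.Pullback.exists_preimage_pullback (f := ηx) (g := w) (closedPoint Rx) y₁
      (specOf_closedPoint x₁ Rx)
    let z' := ce.isoPullback.inv z
    have h1 : p₁ z' = closedPoint Rx := by
      rw [← Scheme.Hom.comp_apply, ce.isoPullback_inv_fst]; exact hz1
    have h2 : z' = closedPoint A := by
      refine PrimeSpectrum.ext ?_
      haveI : z'.asIdeal.IsMaximal := by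
        refine Ideal.isMaximal_of_isIntegral_of_isMaximal_comap (R := Rx) z'.asIdeal ?_
        have h3 : z'.asIdeal.comap (algebraMap Rx A) = maximalIdeal Rx := congrArg PrimeSpectrum.asIdeal h1
        rw [h3]; exact maximalIdeal.isMaximal Rx
      exact IsLocalRing.eq_maximalIdeal this
    rw [← h2, ← Scheme.Hom.comp_apply, ce.isoPullback_inv_snd]
    exact hz2
  have hy : eW (closedPoint A) = y := by
    rw [Scheme.Hom.comp_apply, hey]; exact hy₁
  letI : Algebra (W.presheaf.stalk (eW (closedPoint A))) A := (Scheme.stalkClosedPointTo eW).hom.toAlgebra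
  obtain ⟨_, _⟩ := isStrictHenselization_closedPointTo A eW
  have hη : Hens2.specOf W (eW (closedPoint A)) A = eW := Scheme.Spec_stalkClosedPointTo_fromSpecStalk eW
  refine ⟨ResidueField A, inferInstance, inferInstance, Hens2.geomPt W (eW (closedPoint A)) A, ?_, ?_⟩
  · refine Eq.trans ?_ hy
    refine (Scheme.Hom.comp_apply _ _ _).trans (Eq.trans
      (congrArg (Hens2.specOf W (eW (closedPoint A)) A) ?_) (specOf_closedPoint _ A))
    rw [Subsingleton.elim (default : Spec (CommRingCat.of (ResidueField A))) (closedPoint (ResidueField A))]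
    exact IsLocalRing.comap_closedPoint (residue A)
  haveI := EtSite.preservesFiniteLimits_pull (pullback.snd h (Hens2.specOf W (eW (closedPoint A)) A))
  refine stalk_acyclic_le h _ A _ m fun q hq => ?_
  let Z := pullback h (Hens2.specOf W (eW (closedPoint A)) A)
  let k := pullback.snd h (Hens2.specOf W (eW (closedPoint A)) A)
  have hu : ∀ s : n.asIdeal.primeCompl, IsUnit (algebraMap N Ω s) := fun s =>
    isUnit_iff_ne_zero.2 fun h0 => s.2 (by
      rw [(injective_iff_map_eq_zero _).1 hinj _ h0]; exact zero_mem _)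
  letI : Algebra O Ω := (IsLocalization.lift (S := O) hu).toAlgebra
  letI : Algebra R' Ω := ((algebraMap O Ω).comp φ).toAlgebra
  let sΩ := Spec.map (CommRingCat.ofHom (algebraMap O Ω))
  have hηn : ηn = Spec.map (CommRingCat.ofHom (algebraMap N O)) := by
    refine (congrArg (· ≫ (Spec (CommRingCat.of N)).fromSpecStalk n)
      (show Spec.map (CommRingCat.ofHom (algebraMap O O)) = 𝟙 (Spec O) from Spec.map_id O)).trans ?_
    exact (Category.id_comp _).trans (Spec.fromSpecStalk_eq' _ _)
  have hΩ : sΩ ≫ ηn = Spec.map (CommRingCat.ofHom (algebraMap N Ω)) := by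
    rw [hηn, ← Spec.map_comp]
    exact congrArg Spec.map (CommRingCat.hom_ext (IsLocalization.lift_comp hu))
  haveI : Mono ηn := by
    haveI : IsIso (Spec.map (CommRingCat.ofHom (algebraMap O O))) := by
      rw [show Spec.map (CommRingCat.ofHom (algebraMap O O)) = 𝟙 (Spec O) from Spec.map_id O]
      infer_instance
    exact inferInstanceAs (Mono (Spec.map (CommRingCat.ofHom (algebraMap O O)) ≫
      (Spec (CommRingCat.of N)).fromSpecStalk n))
  have hbot : eW ≫ bW = p₂ ≫ ηn := by
    rw [Category.assoc, pullback.condition, ← Category.assoc, show e ≫ pullback.snd bW ηn = p₂ from cO.lift_snd _ _ _]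
  let fΩ : Z ⟶ Spec (CommRingCat.of Ω) := pullback.fst h _ ≫ bU
  have cZ₀ : IsPullback k fΩ (p₂ ≫ ηn) (sΩ ≫ ηn) := by
    have := (IsPullback.of_hasPullback h (Hens2.specOf W (eW (closedPoint A)) A)).flip.paste_vert cU
    exact FinBC.isPullback_congr' (by rw [hη, hbot]) hΩ.symm this
  have cZ : IsPullback k fΩ p₂ sΩ := StalkBC.isPullback_of_comp_mono ηn cZ₀
  let t' := Spec.map (CommRingCat.ofHom (algebraMap R' Ω))
  have ht' : t' = sΩ ≫ Spec.map (CommRingCat.ofHom φ) := by
    rw [← Spec.map_comp]
    rfl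
  have cR : IsPullback (k ≫ p₁) fΩ (Spec.map (CommRingCat.ofHom (algebraMap R' Rx))) t' := by
    rw [ht', show CommRingCat.ofHom (algebraMap R' Rx) = ψ from rfl, hψ]
    exact cZ.paste_horiz (pbA.flip.flip)
  -- the geometric point downstairs is algebraic
  let S' := Spec (CommRingCat.of R')
  let w' : S' := t' (closedPoint Ω)
  let d := S'.descResidueField (Scheme.stalkClosedPointTo t')
  have hd : Spec.map d ≫ S'.fromSpecResidueField w' = t' :=
    Scheme.descResidueField_stalkClosedPointTo_fromSpecResidueField Ω S' t'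
  letI : Algebra (S'.residueField w') Ω := d.hom.toAlgebra
  have hcomp : t' ≫ ηr = EtAcyc.geomPt (Spec (CommRingCat.of R)) z Ω := by
    rw [hz, ht', Category.assoc, hφη, ← Category.assoc, hΩ]
  have halg : ∀ (v : Spec (CommRingCat.of R)) (_ : v = z)
      (a : (Spec (CommRingCat.of R)).residueField v ⟶ CommRingCat.of Ω),
      Spec.map a ≫ (Spec (CommRingCat.of R)).fromSpecResidueField v = EtAcyc.geomPt (Spec (CommRingCat.of R)) z Ω →
      a.hom.IsIntegral := by
    intro v hv a ha
    subst hv
    have he : Spec.map a = Spec.map (CommRingCat.ofHom (algebraMap ((Spec (CommRingCat.of R)).residueField v) Ω)) :=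
      (cancel_mono ((Spec (CommRingCat.of R)).fromSpecResidueField v)).1 ha
    rw [Spec.map_injective he]
    exact algebraMap_isIntegral_iff.2 inferInstance
  haveI : Algebra.IsAlgebraic (S'.residueField w') Ω := by
    have hv : ηr w' = z := by
      refine (Scheme.Hom.comp_apply t' ηr _).symm.trans ?_
      rw [hcomp]
      exact (Scheme.Hom.comp_apply _ _ _).trans (Scheme.fromSpecResidueField_apply z _)
    have hint := halg (ηr w') hv (ηr.residueFieldMap w' ≫ d) (by
      rw [Spec.map_comp, Category.assoc, Scheme.Hom.SpecMap_residueFieldMap_fromSpecResidueField, ← Category.assoc,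
        hd, hcomp])
    haveI : Algebra.IsIntegral (S'.residueField w') Ω := algebraMap_isIntegral_iff.1 (RingHom.IsIntegral.tower_top _ _ hint)
    infer_instance
  have hgeo : EtAcyc.geomPt S' w' Ω = t' := hd
  -- acyclicity of the downstairs fibre
  let bX : Spec (CommRingCat.of Rx) ⟶ X := ηx ≫ pullback.fst pR ηr
  have hcomp2 : bX ≫ g = Spec.map (CommRingCat.ofHom (algebraMap R' Rx)) ≫ ηr := by
    exact (Category.assoc _ _ _).trans ((congrArg (ηx ≫ ·) pullback.condition).trans
      ((Category.assoc _ _ _).symm.trans (congrArg (· ≫ ηr) hψ.symm)))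
  haveI : WeaklyEtale (pullback.fst pR ηr) := MorphismProperty.pullback_fst _ _ inferInstance
  haveI : WeaklyEtale bX := inferInstance
  have hRxR' : EtAcyc.IsAcyclicN (Spec.map (CommRingCat.ofHom (algebraMap R' Rx))) L m :=
    acyclic_of_loc g L m hloc R' Rx ηr bX hcomp2
  have hfib := FinBC.geomFibres_of_isAcyclicN _ L hL m hRxR' w' Ω
  obtain ⟨hne, hconn, hvan⟩ := isAcyclicScheme_of_iso (cR.isoPullback.hom ≫ (pullback.congrHom rfl hgeo.symm).hom) hfib
  haveI : CompactSpace Z := by
    haveI : QuasiCompact k := MorphismProperty.pullback_snd (P := @QuasiCompact) _ _ inferInstance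
    exact QuasiCompact.compactSpace_of_compactSpace k
  haveI : QuasiSeparatedSpace Z := by
    haveI : QuasiSeparated k := MorphismProperty.pullback_snd (P := @QuasiSeparated) _ _ inferInstance
    exact quasiSeparatedSpace_of_quasiSeparated k
  haveI := EtSite.preservesFiniteLimits_pull (Hens2.specOf W (eW (closedPoint A)) A)
  haveI : ConnectedSpace ↥(Spec (CommRingCat.of A)) := FinBC.connectedSpace_local A
  refine bijective_Hpull_congr k ((EtCore.pullConstIso (Hens2.specOf W (eW (closedPoint A)) A)).app KA).symm q ?_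
  rcases Nat.eq_zero_or_pos q with rfl | hq0
  · exact bijective_Hpull_zero_K k KA
  · haveI := EtSite.subsingleton_H A (ConstSect.K KA _) q hq0
    haveI : Subsingleton (EtCoh.H Z (ConstSect.K KA Z) q) :=
      subsingleton_H_K (fun ℓ hℓ hℓL => hvan ℓ hℓ hℓL q hq0 hq) KA hA
    haveI : Subsingleton (EtCoh.H Z ((EtCoh.pull k).obj (ConstSect.K KA _)) q) :=
      @Equiv.subsingleton _ _ ((EtCoh.HF Z q).mapIso ((EtCore.pullConstIso k).app KA)).addCommGroupIsoToAddEquiv.toEquiv this
    exact ⟨fun _ _ _ => Subsingleton.elim _ _, fun b => ⟨0, Subsingleton.elim _ _⟩⟩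

end Groth.L27.XV
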