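import Groth.Agent.L27.XV.Main
import Groth.Agent.S3510
import Groth.Agent.L28.AcyComp.Iso

/-! # Acyclicity from local acyclicity and acyclic geometric fibres (SGA 4 XV 1.15, 1.17) -/

universe u

open CategoryTheory CategoryTheory.Limits AlgebraicGeometry Opposite IsLocalRing Abelian

set_option backward.isDefEq.respectTransparency.types false
set_option linter.style.haveILetI false
set_option linter.unusedSectionVars false

noncomputable section

namespace Groth.L27.XV

open Groth.L27.LimCoh Groth.L27.LimBC Groth.L27.FinBC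

/-- Unit and higher direct images from bijectivity over all strict localizations of the base. -/
theorem unit_of_strict {X Y : Scheme.{u}} (h : X ⟶ Y) [QuasiCompact h] [QuasiSeparated h] (F : EtCoh.Ab Y) (n : ℕ)
    (H : ∀ (y : Y) (R : Type u) [CommRing R] [HenselianLocalRing R] [IsSepClosed (ResidueField R)]
      [Algebra (Y.presheaf.stalk y) R] [IsLocalHom (algebraMap (Y.presheaf.stalk y) R)]
      [Hensel.IsStrictHenselization (Y.presheaf.stalk y) R]
      [PreservesFiniteLimits (EtCoh.pull (pullback.snd h (Hens2.specOf Y y R)))], ∀ q ≤ n, Function.Bijective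
        (EtCore.Hpull (pullback.snd h (Hens2.specOf Y y R)) ((EtCoh.pull (Hens2.specOf Y y R)).obj F) q)) :
    IsIso ((EtCoh.pullPushAdj h).unit.app F) ∧
      ∀ q : ℕ, 1 ≤ q → q ≤ n → IsZero ((EtCoh.Rpush h q).obj ((EtCoh.pull h).obj F)) := by
  have key : ∀ y : Y, ∃ (K : Type u) (_ : Field K) (_ : IsSepClosed K) (ξ : Spec (CommRingCat.of K) ⟶ Y),
      ξ.base default = y ∧ Function.Bijective ((EtCoh.stalk ξ).map ((EtCoh.pullPushAdj h).unit.app F)) ∧
      ∀ q : ℕ, 0 < q → q ≤ n → IsZero ((EtCoh.stalk ξ).obj ((EtCoh.Rpush h q).obj ((EtCoh.pull h).obj F))) := by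
    intro y
    obtain ⟨R, _, _, _, _, hR⟩ := L05.Henselization.exists_isStrictHenselization (Y.presheaf.stalk y)
    haveI := hR
    obtain ⟨_, _⟩ := StalkBC.henselian_strict y R
    haveI := EtSite.preservesFiniteLimits_pull (pullback.snd h (Hens2.specOf Y y R))
    refine ⟨ResidueField R, inferInstance, inferInstance, Hens2.geomPt Y y R, ?_,
      stalk_acyclic_le h y R F n (H y R)⟩
    refine (Scheme.Hom.comp_apply _ _ _).trans (Eq.trans
      (congrArg (Hens2.specOf Y y R) ?_) (specOf_closedPoint y R))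
    rw [Subsingleton.elim (default : Spec (CommRingCat.of (ResidueField R))) (closedPoint (ResidueField R))]
    exact IsLocalRing.comap_closedPoint (residue R)
  let φ := (EtCoh.pullPushAdj h).unit.app F
  haveI : Mono φ := by
    have : Sheaf.IsLocallyInjective φ := EtSite.isLocallyInjective_of_some_stalks _ fun y => by
      obtain ⟨K, _, _, ξ, hξ, hb, -⟩ := key y
      exact ⟨K, _, inferInstance, ξ, hξ, hb.1⟩
    exact Sheaf.mono_of_isLocallyInjective _
  haveI : Epi φ :=
    (Sheaf.isLocallySurjective_iff_epi' (φ := φ)).1 (EtSite.isLocallySurjective_of_some_stalks _ fun y => by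
      obtain ⟨K, _, _, ξ, hξ, hb, -⟩ := key y
      exact ⟨K, _, inferInstance, ξ, hξ, hb.2⟩)
  refine ⟨isIso_of_mono_of_epi φ, fun q h1 h2 => EtSite.isZero_of_stalks _ fun y => ?_⟩
  obtain ⟨K, _, _, ξ, hξ, -, hz⟩ := key y
  exact ⟨K, _, inferInstance, ξ, hξ, hz q h1 h2⟩

/-- Degree zero: surjective strict localizations and connected fibres. -/
theorem isAcyclicN_zero_of_fibres {X Y : Scheme.{u}} (g : X ⟶ Y) [QuasiCompact g] [QuasiSeparated g] (L : Set ℕ)
    (hs : SurjStrict g) (hf : EtAcyc.GeomFibresAcyclicN L 0 g) : EtAcyc.IsAcyclicN g L 0 := by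
  refine (Groth.Agent.S3510.result g L 0).2 fun V F hF => ?_
  haveI : QuasiCompact (EtAcyc.prj g V) := MorphismProperty.pullback_fst (P := @QuasiCompact) _ _ inferInstance
  haveI : QuasiSeparated (EtAcyc.prj g V) := MorphismProperty.pullback_fst (P := @QuasiSeparated) _ _ inferInstance
  haveI : AlgebraicGeometry.Etale V.hom := V.prop
  haveI : AlgebraicGeometry.Etale (pullback.snd V.hom g) := MorphismProperty.pullback_snd _ _ inferInstance
  have hfV : EtAcyc.GeomFibresAcyclicN L 0 (EtAcyc.prj g V) :=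
    geomFibres_transfer (IsPullback.of_hasPullback V.hom g).flip (algResidue_etale V.hom) hf
  have hsV : SurjStrict (EtAcyc.prj g V) :=
    onStrict_transfer (pullback.snd V.hom g) V.hom pullback.condition.symm hs
  refine unit_of_strict (EtAcyc.prj g V) F 0 fun y R _ _ _ _ _ _ _ q hq => ?_
  obtain rfl := Nat.le_zero.1 hq
  haveI : WeaklyEtale (Hens2.specOf V.left y R) := Acyclic0.weaklyEtale_fromStrict y R
  haveI : WeaklyEtale (pullback.fst (EtAcyc.prj g V) (Hens2.specOf V.left y R)) :=
    MorphismProperty.pullback_fst _ _ inferInstance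
  exact bijective_zero R _ (onStrict_transfer _ _ pullback.condition hsV)
    (geomFibres_transfer (IsPullback.of_hasPullback (EtAcyc.prj g V) _) (algResidue_specOf y R) hfV) _

/-- Higher degrees: local acyclicity one degree below and acyclic fibres. -/
theorem isAcyclicN_of_fibres {X Y : Scheme.{u}} (g : X ⟶ Y) [QuasiCompact g] [QuasiSeparated g] (L : Set ℕ)
    (hL : ∃ ℓ ∈ L, ℓ.Prime) (m : ℕ) (hloc : EtAcyc.IsLocAcyclicN g L m)
    (hf : EtAcyc.GeomFibresAcyclicN L (m + 1) g) : EtAcyc.IsAcyclicN g L (m + 1) := by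
  refine (Groth.Agent.S3510.result g L (m + 1)).2 fun V F hF => ?_
  haveI : QuasiCompact (EtAcyc.prj g V) := MorphismProperty.pullback_fst (P := @QuasiCompact) _ _ inferInstance
  haveI : QuasiSeparated (EtAcyc.prj g V) := MorphismProperty.pullback_fst (P := @QuasiSeparated) _ _ inferInstance
  haveI : AlgebraicGeometry.Etale V.hom := V.prop
  haveI : AlgebraicGeometry.Etale (pullback.snd V.hom g) := MorphismProperty.pullback_snd _ _ inferInstance
  have hfV : EtAcyc.GeomFibresAcyclicN L (m + 1) (EtAcyc.prj g V) :=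
    geomFibres_transfer (IsPullback.of_hasPullback V.hom g).flip (algResidue_etale V.hom) hf
  have hlV : EtAcyc.IsLocAcyclicN (EtAcyc.prj g V) L m :=
    onStrict_transfer (pullback.snd V.hom g) V.hom pullback.condition.symm hloc
  refine unit_of_strict (EtAcyc.prj g V) F (m + 1) fun y R _ _ _ _ _ _ _ q hq => ?_
  obtain ⟨hl', hf'⟩ := strictBase (EtAcyc.prj g V) hlV hfV y R
  haveI : QuasiCompact (pullback.snd (EtAcyc.prj g V) (Hens2.specOf V.left y R)) :=
    MorphismProperty.pullback_snd (P := @QuasiCompact) _ _ inferInstance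
  haveI : QuasiSeparated (pullback.snd (EtAcyc.prj g V) (Hens2.specOf V.left y R)) :=
    MorphismProperty.pullback_snd (P := @QuasiSeparated) _ _ inferInstance
  exact bijective_Hpull_strict R _ L hL m hl' hf' _ (Groth.L28.AcyComp.isLTorsion_pull _ hF) q hq

/-- Local acyclicity from the fibres of the strict localizations. -/
theorem isLocAcyclicN_of_fibres {X Y : Scheme.{u}} (g : X ⟶ Y) (L : Set ℕ) (hL : ∃ ℓ ∈ L, ℓ.Prime) :
    ∀ n : ℕ, EtAcyc.OnStrictLocalizations g (fun _ _ h => EtAcyc.GeomFibresAcyclicN L n h) →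
      EtAcyc.IsLocAcyclicN g L n := by
  intro n
  induction n with
  | zero =>
    intro H x RY RX _ _ _ _ _ _ _ _ _ _ _ _ hc
    haveI : WeaklyEtale (Hens2.specOf Y (g.base x) RY) := Acyclic0.weaklyEtale_fromStrict _ RY
    haveI : WeaklyEtale (Hens2.specOf X x RX) := Acyclic0.weaklyEtale_fromStrict x RX
    refine isAcyclicN_zero_of_fibres _ L ?_ (H x RY RX hc)
    exact onStrict_transfer (Hens2.specOf X x RX) (Hens2.specOf Y (g.base x) RY)
      (StalkBC.specOf_comp g x RY RX (algebraMap RY RX) hc).symm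
      (fun x RY RX _ _ _ _ _ _ _ _ _ _ _ _ hc y => nonempty_fibre _ (H x RY RX hc) y)
  | succ m ih =>
    intro H x RY RX _ _ _ _ _ _ _ _ _ _ _ _ hc
    haveI : WeaklyEtale (Hens2.specOf Y (g.base x) RY) := Acyclic0.weaklyEtale_fromStrict _ RY
    haveI : WeaklyEtale (Hens2.specOf X x RX) := Acyclic0.weaklyEtale_fromStrict x RX
    refine isAcyclicN_of_fibres _ L hL m ?_ (H x RY RX hc)
    exact onStrict_transfer (Hens2.specOf X x RX) (Hens2.specOf Y (g.base x) RY)
      (StalkBC.specOf_comp g x RY RX (algebraMap RY RX) hc).symm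
      (ih fun x RY RX _ _ _ _ _ _ _ _ _ _ _ _ hc => geomFibres_mono (Nat.le_succ m) (H x RY RX hc))

end Groth.L27.XV
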