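import Groth.Agent.L27.XV.Embed
import Groth.Agent.L27.AffineEfface.Effacement
import Groth.Agent.L27.CompTransfer.Torsion

/-! # Acyclicity over a strictly local base from local acyclicity and acyclic geometric fibres -/

universe u

open CategoryTheory CategoryTheory.Limits AlgebraicGeometry Opposite IsLocalRing Abelian

set_option backward.isDefEq.respectTransparency.types false
set_option linter.style.haveILetI false
set_option linter.unusedSectionVars false

noncomputable section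

namespace Groth.L27.XV

open Groth.L27.LimCoh Groth.L27.LimBC Groth.L27.FinBC

/-- Separating the part of an integer with primes in `L`. -/
theorem exists_split (L : Set ℕ) : ∀ N : ℕ, 0 < N →
    ∃ a b, N = a * b ∧ EtAcyc.PrimesIn L a ∧ ∀ p : ℕ, p.Prime → p ∣ b → p ∉ L := by
  intro N
  induction N using Nat.strong_induction_on with
  | _ N ih =>
    intro hN
    by_cases h : ∀ p : ℕ, p.Prime → p ∣ N → p ∉ L
    · exact ⟨1, N, (one_mul N).symm, ⟨Nat.one_pos, fun p hp hd => absurd (Nat.dvd_one.1 hd) hp.ne_one⟩, h⟩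
    · push Not at h
      obtain ⟨p, hp, ⟨N', rfl⟩, hpL⟩ := h
      have hN' : 0 < N' := Nat.pos_of_mul_pos_left hN
      obtain ⟨a, b, rfl, ha, hb⟩ := ih N' ((Nat.lt_mul_iff_one_lt_left hN').2 hp.one_lt) hN'
      refine ⟨p * a, b, (mul_assoc p a b).symm, ⟨Nat.mul_pos hp.pos ha.1, fun q hq hd => ?_⟩, hb⟩
      rcases hq.dvd_mul.1 hd with h' | h'
      · rwa [(Nat.prime_dvd_prime_iff_eq hq hp).1 h']
      · exact ha.2 q hq h'

theorem map_nsmul_id_apply {X : Scheme.{u}} (G : EtCoh.Ab X) (N : ℕ) {Ω : Type u} [Field Ω] [IsSepClosed Ω]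
    (ξ : Spec (CommRingCat.of Ω) ⟶ X) (v : (EtCoh.stalk ξ).obj G) :
    (EtCoh.stalk ξ).map (N • 𝟙 G) v = N • v := by
  haveI : (EtCoh.stalk ξ).Additive := Functor.additive_of_preserves_binary_products _
  rw [Functor.map_nsmul, CategoryTheory.Functor.map_id]
  let ev : ((EtCoh.stalk ξ).obj G ⟶ (EtCoh.stalk ξ).obj G) →+ (EtCoh.stalk ξ).obj G :=
    AddMonoidHom.mk' (fun g => g v) fun _ _ => rfl
  exact map_nsmul ev N (𝟙 _)

/-- A constructible sheaf is killed by a positive integer. -/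
theorem exists_killed {X : Scheme.{u}} [CompactSpace X] [QuasiSeparatedSpace X] {C : EtCoh.Ab X}
    (hC : EtPBC.IsConstructible C) : ∃ N, 0 < N ∧ N • 𝟙 C = 0 := by
  obtain ⟨n, M, iM, fM, hM⟩ := AffineEfface.exists_finite_types hC
  refine ⟨∏ c, Nat.card (M c), Finset.prod_pos fun c _ => Nat.card_pos, eq_zero_of_stalks _ fun x => ?_⟩
  obtain ⟨c, hc⟩ := hM x
  obtain ⟨Ω, _, _, ξ, hξ⟩ := EtSite.exists_geometric_point x
  obtain ⟨e⟩ := hc Ω ξ hξ
  refine ⟨Ω, inferInstance, inferInstance, ξ, hξ, ConcreteCategory.hom_ext _ _ fun v => ?_⟩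
  refine (map_nsmul_id_apply C _ ξ v).trans ((ConcreteCategory.bijective_of_isIso e.hom).1 ?_)
  obtain ⟨d, hd⟩ := Finset.dvd_prod_of_mem (fun c => Nat.card (M c)) (Finset.mem_univ c)
  refine (map_nsmul e.hom.hom _ v).trans (Eq.trans ?_ (map_zero e.hom.hom).symm)
  rw [hd, mul_nsmul]
  have h0 : Nat.card (M c) • (e.hom v : ULift.{u + 1} (M c)) = 0 := ULift.ext _ _ card_nsmul_eq_zero'
  exact (congrArg (d • ·) h0).trans (nsmul_zero d)

/-- Maps from constructible sheaves to `L`-torsion sheaves factor through killed constructible sheaves. -/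
theorem exists_killed_factor {X : Scheme.{u}} [CompactSpace X] [QuasiSeparatedSpace X] {L : Set ℕ}
    {C F : EtCoh.Ab X} (hC : EtPBC.IsConstructible C) (φ : C ⟶ F) (hF : EtAcyc.IsLTorsion L F) :
    ∃ (C' : EtCoh.Ab X) (π : C ⟶ C') (φ' : C' ⟶ F), EtPBC.IsConstructible C' ∧ DerBC.Killed L C' ∧
      π ≫ φ' = φ := by
  obtain ⟨N, hN, hN0⟩ := exists_killed hC
  obtain ⟨a, b, rfl, ha, hb⟩ := exists_split L N hN
  have h0 : (a • 𝟙 C) ≫ φ = 0 := by
    refine eq_zero_of_stalks _ fun x => ?_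
    obtain ⟨Ω, _, _, ξ, hξ⟩ := EtSite.exists_geometric_point x
    refine ⟨Ω, inferInstance, inferInstance, ξ, hξ, ConcreteCategory.hom_ext _ _ fun v => ?_⟩
    rw [Functor.map_comp, ConcreteCategory.comp_apply, map_nsmul_id_apply]
    let y := (EtCoh.stalk ξ).map φ v
    show (EtCoh.stalk ξ).map φ (a • v) = 0
    refine (map_nsmul ((EtCoh.stalk ξ).map φ).hom a v).trans ?_
    obtain ⟨k, hk, hk0⟩ := L28.EtTor.isLTorsion_iff_stalks.1 hF Ω ξ y
    have hy : (a * b) • y = 0 := by
      refine (map_nsmul ((EtCoh.stalk ξ).map φ).hom (a * b) v).symm.trans ?_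
      rw [← map_nsmul_id_apply C (a * b) ξ v, hN0]
      simp
    have hco : Nat.Coprime k b := Nat.coprime_of_dvd fun p hp h1 h2 => hb p hp h2 (hk.2 p hp h1)
    have h1 : b • (a • y) = 0 := by rw [← mul_nsmul, hy]
    have h2 : k • (a • y) = 0 := by rw [nsmul_left_comm, hk0, nsmul_zero]
    have hd : addOrderOf (a • y) ∣ Nat.gcd k b :=
      Nat.dvd_gcd (addOrderOf_dvd_of_nsmul_eq_zero h2) (addOrderOf_dvd_of_nsmul_eq_zero h1)
    rw [hco] at hd
    exact AddMonoid.addOrderOf_eq_one_iff.1 (Nat.dvd_one.1 hd)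
  refine ⟨cokernel (a • 𝟙 C), cokernel.π _, cokernel.desc _ φ h0,
    (L28.Strata.isConstructible_kernel_cokernel (a • 𝟙 C) hC hC).2, ⟨a, ha, ?_⟩, cokernel.π_desc _ _ _⟩
  rw [← cancel_epi (cokernel.π (a • 𝟙 C)), comp_zero, Preadditive.comp_nsmul, Category.comp_id]
  refine Eq.trans ?_ (cokernel.condition (a • 𝟙 C))
  rw [Preadditive.nsmul_comp, Category.id_comp]

/-- Higher cohomology upstairs vanishes. -/
theorem subsingleton_H_pull (R : Type u) [CommRing R] [HenselianLocalRing R] [IsSepClosed (ResidueField R)]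
    {X : Scheme.{u}} (g : X ⟶ Spec (CommRingCat.of R)) [QuasiCompact g] [QuasiSeparated g]
    [PreservesFiniteLimits (EtCoh.pull g)] (L : Set ℕ) (hL : ∃ ℓ ∈ L, ℓ.Prime) (m : ℕ)
    (hloc : EtAcyc.IsLocAcyclicN g L m) (hf : EtAcyc.GeomFibresAcyclicN L (m + 1) g) :
    ∀ q : ℕ, q ≤ m → ∀ F : EtCoh.Ab (Spec (CommRingCat.of R)), EtAcyc.IsLTorsion L F →
      Subsingleton (EtCoh.H X ((EtCoh.pull g).obj F) (q + 1)) := by
  intro q
  haveI : CompactSpace X := QuasiCompact.compactSpace_of_compactSpace g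
  haveI : QuasiSeparatedSpace X := quasiSeparatedSpace_of_quasiSeparated g
  induction q using Nat.strong_induction_on with
  | _ q ih =>
    intro hq F hF
    refine subsingleton_of_forall_eq 0 fun ξ => ?_
    obtain ⟨hc⟩ := L28.ExtShriek.isColimit_presCocone (F := F) (AffineEfface.isTorsion_of_isLTorsion hF)
    haveI : PreservesColimitsOfSize.{u + 1, u + 1} (EtCoh.pull g) :=
      (EtCoh.pullPushAdj g).leftAdjoint_preservesColimits
    obtain ⟨j, η, hη⟩ := (L28.ColimBig.commutes Colim.good (EtCore.topIsTerminal X) ⟨‹_›, ‹_›⟩ (q + 1)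
      (L28.ExtShriek.presDiag F ⋙ EtCoh.pull g) ((EtCoh.pull g).mapCocone (L28.ExtShriek.presCocone F))
      (isColimitOfPreserves (EtCoh.pull g) hc)).1 ξ
    obtain ⟨C, π, φ', hC, hCk, hfac⟩ :=
      exists_killed_factor j.1.isConstructible_obj ((L28.ExtShriek.presCocone F).ι.app j) hF
    suffices h : Subsingleton (EtCoh.H X ((EtCoh.pull g).obj C) (q + 1)) by
      rw [← hη]
      refine (congrArg (fun f => Sheaf.H.map f (q + 1) η)
        ((congrArg (EtCoh.pull g).map hfac).symm.trans ((EtCoh.pull g).map_comp π φ'))).trans ?_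
      refine (Sheaf.H.map_comp_apply _ _ _).trans ?_
      exact (congrArg _ (Subsingleton.elim (α := EtCoh.H X ((EtCoh.pull g).obj C) (q + 1)) _ 0)).trans (map_zero _)
    obtain ⟨G, φ, _, hGk, hG0, hGX⟩ := exists_mono_acyclic_pull g L hL m hloc hf hC hCk
    have hE : (ShortComplex.mk φ (cokernel.π φ) (cokernel.condition φ)).ShortExact :=
      { exact := ShortComplex.exact_of_g_is_cokernel _ (cokernelIsCokernel φ) }
    have hQ : EtAcyc.IsLTorsion L (cokernel φ) := (DerBC.Killed.of_epi (cokernel.π φ) hGk).isLTorsion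
    refine subsingleton_of_forall_eq 0 fun x => ?_
    haveI := hGX (q + 1) (Nat.succ_pos q) (by omega)
    obtain ⟨y, rfl⟩ := LimCoh.exists_δH (hE.map_of_exact (EtCoh.pull g)) q x
      (Subsingleton.elim (α := EtCoh.H X ((EtCoh.pull g).obj G) (q + 1)) _ _)
    rcases Nat.eq_zero_or_pos q with rfl | hq0
    · obtain ⟨z, rfl⟩ := (bijective_zero R g (surjStrict_of_loc g L hL m hloc)
        (geomFibres_mono (Nat.zero_le _) hf) (cokernel φ)).2 y
      refine (LimCoh.Hpull_δH g hE 0 z).symm.trans ?_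
      haveI := EtSite.subsingleton_H R C 1 le_rfl
      exact (congrArg _ (Subsingleton.elim (α := EtCoh.H (Spec (CommRingCat.of R)) C 1) _ 0)).trans (map_zero _)
    · obtain ⟨p, rfl⟩ : ∃ p, q = p + 1 := ⟨q - 1, by omega⟩
      haveI := ih p (Nat.lt_succ_self p) (by omega) (cokernel φ) hQ
      exact (congrArg _ (Subsingleton.elim (α := EtCoh.H X ((EtCoh.pull g).obj (cokernel φ)) (p + 1)) y 0)).trans
        (map_zero _)

/-- Restriction from a strictly local base is bijective up to the acyclicity degree of the fibres. -/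
theorem bijective_Hpull_strict (R : Type u) [CommRing R] [HenselianLocalRing R] [IsSepClosed (ResidueField R)]
    {X : Scheme.{u}} (g : X ⟶ Spec (CommRingCat.of R)) [QuasiCompact g] [QuasiSeparated g]
    [PreservesFiniteLimits (EtCoh.pull g)] (L : Set ℕ) (hL : ∃ ℓ ∈ L, ℓ.Prime) (m : ℕ)
    (hloc : EtAcyc.IsLocAcyclicN g L m) (hf : EtAcyc.GeomFibresAcyclicN L (m + 1) g)
    (F : EtCoh.Ab (Spec (CommRingCat.of R))) (hF : EtAcyc.IsLTorsion L F) (q : ℕ) (hq : q ≤ m + 1) :
    Function.Bijective (EtCore.Hpull g F q) := by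
  cases q with
  | zero => exact bijective_zero R g (surjStrict_of_loc g L hL m hloc) (geomFibres_mono (Nat.zero_le _) hf) F
  | succ p =>
    haveI := EtSite.subsingleton_H R F (p + 1) (by omega)
    haveI := subsingleton_H_pull R g L hL m hloc hf p (by omega) F hF
    exact ⟨fun _ _ _ => Subsingleton.elim _ _, fun b => ⟨0, Subsingleton.elim _ _⟩⟩

end Groth.L27.XV
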