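import Groth.Agent.L27.XV.GenericInj

/-! # Vanishing over absolutely integrally closed domains -/

universe u

open CategoryTheory CategoryTheory.Limits AlgebraicGeometry Opposite IsLocalRing Abelian

set_option backward.isDefEq.respectTransparency.types false
set_option linter.style.haveILetI false
set_option linter.unusedSectionVars false

noncomputable section

namespace Groth.L27.XV

open Groth.L27.LimCoh Groth.L27.LimBC Groth.L27.FinBC

/-- Strict localizations of locally acyclic morphisms are surjective. -/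
theorem surjStrict_of_loc {X Y : Scheme.{u}} (g : X ⟶ Y) (L : Set ℕ) (hL : ∃ ℓ ∈ L, ℓ.Prime) (m : ℕ)
    (hloc : EtAcyc.IsLocAcyclicN g L m) : SurjStrict g :=
  fun x RY RX _ _ _ _ _ _ _ _ _ _ _ _ hc y =>
    nonempty_fibre _ (FinBC.geomFibres_of_isAcyclicN _ L hL m (hloc x RY RX hc)) y

/-- The hypotheses pass to a strict localization of the base. -/
theorem strictBase {X Y : Scheme.{u}} (g : X ⟶ Y) {L : Set ℕ} {m n : ℕ}
    (hloc : EtAcyc.IsLocAcyclicN g L m) (hf : EtAcyc.GeomFibresAcyclicN L n g) (r : Y) (R : Type u) [CommRing R]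
    [IsLocalRing R] [Algebra (Y.presheaf.stalk r) R] [IsLocalHom (algebraMap (Y.presheaf.stalk r) R)]
    [Hensel.IsStrictHenselization (Y.presheaf.stalk r) R] :
    EtAcyc.IsLocAcyclicN (pullback.snd g (Hens2.specOf Y r R)) L m ∧
      EtAcyc.GeomFibresAcyclicN L n (pullback.snd g (Hens2.specOf Y r R)) := by
  haveI : WeaklyEtale (Hens2.specOf Y r R) := Acyclic0.weaklyEtale_fromStrict r R
  haveI : WeaklyEtale (pullback.fst g (Hens2.specOf Y r R)) := MorphismProperty.pullback_fst _ _ inferInstance
  exact ⟨onStrict_transfer _ _ pullback.condition hloc,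
    geomFibres_transfer (IsPullback.of_hasPullback g _) (algResidue_specOf r R) hf⟩

/-- Algebraicity over a subfield containing an integral ring. -/
theorem isAlgebraic_of_image {κ Ω N : Type u} [Field κ] [Field Ω] [CommRing N] [Algebra κ Ω] [Algebra N Ω]
    [Algebra.IsAlgebraic N Ω] (hinj : Function.Injective (algebraMap N Ω))
    (h : ∀ x : N, IsIntegral κ (algebraMap N Ω x)) : Algebra.IsAlgebraic κ Ω := by
  refine ⟨fun x => ?_⟩
  let C := integralClosure κ Ω
  let ρ : N →+* C := (algebraMap N Ω).codRestrict C.toSubring h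
  obtain ⟨P, hP0, hP⟩ := Algebra.IsAlgebraic.isAlgebraic (R := N) x
  have hρ : Function.Injective ρ := fun a b e => hinj (congrArg Subtype.val e)
  have hx : IsAlgebraic C x := by
    refine ⟨P.map ρ, (Polynomial.map_ne_zero_iff hρ).2 hP0, ?_⟩
    rw [Polynomial.aeval_def, Polynomial.eval₂_map, show (algebraMap C Ω).comp ρ = algebraMap N Ω from rfl,
      ← Polynomial.aeval_def]
    exact hP
  haveI : Algebra.IsIntegral κ C := inferInstance
  exact (isIntegral_trans (R := κ) (A := C) x
    (IsIntegral.of_aux hx)).isAlgebraic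
where
  IsIntegral.of_aux {κ Ω : Type u} [Field κ] [Field Ω] [Algebra κ Ω] {x : Ω}
      (hx : IsAlgebraic (integralClosure κ Ω) x) : IsIntegral (integralClosure κ Ω) x := by
    haveI : IsDomain (integralClosure κ Ω) := inferInstance
    letI := (isField_of_isIntegral_of_isField' (R := κ) (S := integralClosure κ Ω) (Field.toIsField κ)).toField
    exact hx.isIntegral

/-- Vanishing over an absolutely integrally closed domain. -/
theorem subsingleton_H_domain {R : Type u} [CommRing R] {X : Scheme.{u}} (g : X ⟶ Spec (CommRingCat.of R))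
    [QuasiCompact g] [QuasiSeparated g] (L : Set ℕ) (hL : ∃ ℓ ∈ L, ℓ.Prime) (m : ℕ)
    (hloc : EtAcyc.IsLocAcyclicN g L m) (hf : EtAcyc.GeomFibresAcyclicN L (m + 1) g)
    (N : Type u) [CommRing N] [IsDomain N] [Algebra R N] [Algebra.IsIntegral R N]
    (hroots : L20.IntCover.HasRoots N) {W : Scheme.{u}} (a : W ⟶ X) (bW : W ⟶ Spec (CommRingCat.of N))
    (cW : IsPullback a bW g (Spec.map (CommRingCat.ofHom (algebraMap R N)))) (KA : AddCommGrpCat.{u + 1})
    (hA : ∀ t : KA, ∃ k, EtAcyc.PrimesIn L k ∧ k • t = 0) (q : ℕ) (hq1 : 1 ≤ q) (hqm : q ≤ m + 1) :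
    Subsingleton (EtCoh.H W (ConstSect.K KA W) q) := by
  obtain ⟨j, rfl⟩ : ∃ j, q = j + 1 := ⟨q - 1, by omega⟩
  let Ω := AlgebraicClosure (FractionRing N)
  haveI : IsSepClosed Ω := inferInstance
  haveI : Algebra.IsAlgebraic N Ω := by
    haveI : Algebra.IsAlgebraic N (FractionRing N) := IsLocalization.isAlgebraic _ (nonZeroDivisors N)
    exact Algebra.IsAlgebraic.trans N (FractionRing N) Ω
  have hinj : Function.Injective (algebraMap N Ω) := fun x y h => by
    refine IsFractionRing.injective N (FractionRing N) ((algebraMap (FractionRing N) Ω).injective ?_)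
    rw [← IsScalarTower.algebraMap_apply, ← IsScalarTower.algebraMap_apply]
    exact h
  let S := Spec (CommRingCat.of R)
  let sΩ := Spec.map (CommRingCat.ofHom (algebraMap N Ω))
  let t : Spec (CommRingCat.of Ω) ⟶ S := sΩ ≫ Spec.map (CommRingCat.ofHom (algebraMap R N))
  let z : S := t (closedPoint Ω)
  let d := S.descResidueField (Scheme.stalkClosedPointTo t)
  have hd : Spec.map d ≫ S.fromSpecResidueField z = t :=
    Scheme.descResidueField_stalkClosedPointTo_fromSpecResidueField Ω S t
  letI : Algebra (S.residueField z) Ω := d.hom.toAlgebra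
  let ρ : CommRingCat.of R ⟶ S.residueField z :=
    CommRingCat.ofHom (algebraMap R z.asIdeal.ResidueField) ≫
      (Scheme.Spec.residueFieldIso (CommRingCat.of R) z).inv
  have hρ : d.hom.comp ρ.hom = (algebraMap N Ω).comp (algebraMap R N) := by
    have h1 : ρ ≫ d = CommRingCat.ofHom ((algebraMap N Ω).comp (algebraMap R N)) := by
      apply Spec.map_injective
      rw [Spec.map_comp]
      refine Eq.trans ?_ (hd.trans (Spec.map_comp _ _).symm)
      refine congrArg (Spec.map d ≫ ·) ?_
      exact (Spec.map_comp _ _).trans (Scheme.Spec.map_residueFieldIso_inv_eq_fromSpecResidueField _ _)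
    exact congrArg CommRingCat.Hom.hom h1
  haveI : Algebra.IsAlgebraic (S.residueField z) Ω := isAlgebraic_of_image hinj fun x => by
    obtain ⟨P, hm, hP⟩ : IsIntegral R x := Algebra.IsIntegral.isIntegral x
    refine ⟨P.map ρ.hom, hm.map _, ?_⟩
    rw [Polynomial.eval₂_map, show (algebraMap (S.residueField z) Ω).comp ρ.hom = d.hom.comp ρ.hom from rfl, hρ,
      ← Polynomial.hom_eval₂, hP, map_zero]
  haveI : QuasiCompact bW := MorphismProperty.of_isPullback (P := @QuasiCompact) cW inferInstance
  haveI : QuasiSeparated bW := MorphismProperty.of_isPullback (P := @QuasiSeparated) cW inferInstance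
  let U := pullback bW sΩ
  haveI := EtSite.preservesFiniteLimits_pull (pullback.fst bW sΩ)
  haveI : CompactSpace U := QuasiCompact.compactSpace_of_compactSpace (pullback.snd bW sΩ)
  haveI : QuasiSeparatedSpace U := quasiSeparatedSpace_of_quasiSeparated (pullback.snd bW sΩ)
  have hz : EtAcyc.geomPt S z Ω = t := hd
  have cU := (IsPullback.of_hasPullback bW sΩ).paste_horiz cW
  obtain ⟨-, -, hvan⟩ := isAcyclicScheme_of_iso (cU.isoPullback.hom ≫ (pullback.congrHom rfl hz.symm).hom) (hf z Ω)
  haveI : Subsingleton (EtCoh.H U (ConstSect.K KA U) (j + 1)) :=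
    subsingleton_H_K (fun ℓ hℓ hℓL => hvan ℓ hℓ hℓL (j + 1) hq1 hqm) KA hA
  haveI : Subsingleton (EtCoh.H U ((EtCoh.pull (pullback.fst bW sΩ)).obj (ConstSect.K KA W)) (j + 1)) :=
    @Equiv.subsingleton _ _ ((EtCoh.HF U (j + 1)).mapIso
      ((EtCore.pullConstIso (pullback.fst bW sΩ)).app KA)).addCommGroupIsoToAddEquiv.toEquiv this
  exact (injective_Hpull_generic g L hL j (isLocAcyclicN_mono (by omega) hloc) N hroots a bW cW Ω hinj z hz
    (pullback.fst bW sΩ) (pullback.snd bW sΩ) (IsPullback.of_hasPullback bW sΩ) KA hA).subsingleton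

end Groth.L27.XV
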