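import Groth.Agent.L27.XV.Vanish
import Groth.Agent.L20.IntCover.Ring
import Groth.Agent.L27.AffineEfface.Core

/-! # Vanishing over absolutely integrally closed rings with integral local rings -/

universe u

open CategoryTheory CategoryTheory.Limits AlgebraicGeometry Opposite IsLocalRing Abelian

set_option backward.isDefEq.respectTransparency.types false
set_option linter.style.haveILetI false
set_option linter.unusedSectionVars false

noncomputable section

namespace Groth.L27.XV

open Groth.L27.LimCoh Groth.L27.LimBC Groth.L27.FinBC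

/-- Acyclicity at all points in a range of degrees gives bijectivity in that range. -/
theorem bijective_of_stalks {U W : Scheme.{u}} (h : U ⟶ W) [PreservesFiniteLimits (EtCoh.pull h)]
    (M : EtCoh.Ab W) (m : ℕ)
    (H : ∀ y : W, ∃ (K : Type u) (_ : Field K) (_ : IsSepClosed K) (ξ : Spec (CommRingCat.of K) ⟶ W),
      ξ.base default = y ∧ Function.Bijective ((EtCoh.stalk ξ).map ((EtCoh.pullPushAdj h).unit.app M)) ∧
      ∀ q : ℕ, 0 < q → q ≤ m → IsZero ((EtCoh.stalk ξ).obj ((EtCoh.Rpush h q).obj ((EtCoh.pull h).obj M))))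
    (q : ℕ) (hq : q ≤ m) : Function.Bijective (EtCore.Hpull h M q) := by
  let φ := (EtCoh.pullPushAdj h).unit.app M
  haveI : Mono φ := by
    have : Sheaf.IsLocallyInjective φ := EtSite.isLocallyInjective_of_some_stalks _ fun y => by
      obtain ⟨K, _, _, ξ, hξ, hb, -⟩ := H y
      exact ⟨K, _, inferInstance, ξ, hξ, hb.1⟩
    exact Sheaf.mono_of_isLocallyInjective _
  haveI : Epi φ :=
    (Sheaf.isLocallySurjective_iff_epi' (φ := φ)).1 (EtSite.isLocallySurjective_of_some_stalks _ fun y => by
      obtain ⟨K, _, _, ξ, hξ, hb, -⟩ := H y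
      exact ⟨K, _, inferInstance, ξ, hξ, hb.2⟩)
  haveI : IsIso φ := isIso_of_mono_of_epi φ
  exact (L28.AcycCrit.compN_of_unit h M m fun p h1 h2 => EtSite.isZero_of_stalks _ fun y => by
    obtain ⟨K, _, _, ξ, hξ, -, hz⟩ := H y
    exact ⟨K, _, inferInstance, ξ, hξ, hz p h1 h2⟩).1 q hq

/-- Vanishing with constant coefficients over a ring with roots whose local rings are domains. -/
theorem subsingleton_H_localDomain {R : Type u} [CommRing R] {X : Scheme.{u}} (g : X ⟶ Spec (CommRingCat.of R))
    [QuasiCompact g] [QuasiSeparated g] (L : Set ℕ) (hL : ∃ ℓ ∈ L, ℓ.Prime) (m : ℕ)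
    (hloc : EtAcyc.IsLocAcyclicN g L m) (hf : EtAcyc.GeomFibresAcyclicN L (m + 1) g)
    (N : Type u) [CommRing N] [Algebra R N] [Algebra.IsIntegral R N] (hroots : L20.IntCover.HasRoots N)
    (hdom : ∀ (t : Ideal N) [t.IsPrime], IsDomain (Localization.AtPrime t)) {W : Scheme.{u}} (a : W ⟶ X)
    (bW : W ⟶ Spec (CommRingCat.of N))
    (cW : IsPullback a bW g (Spec.map (CommRingCat.ofHom (algebraMap R N)))) (KA : AddCommGrpCat.{u + 1})
    (hA : ∀ t : KA, ∃ k, EtAcyc.PrimesIn L k ∧ k • t = 0) (q : ℕ) (hq1 : 1 ≤ q) (hqm : q ≤ m + 1)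
    [Subsingleton (EtCoh.H (Spec (CommRingCat.of N)) (ConstSect.K KA (Spec (CommRingCat.of N))) q)] :
    Subsingleton (EtCoh.H W (ConstSect.K KA W) q) := by
  let sR := Spec.map (CommRingCat.ofHom (algebraMap R N))
  haveI : IsIntegralHom sR := by
    rw [IsIntegralHom.SpecMap_iff]
    exact algebraMap_isIntegral_iff.mpr inferInstance
  haveI : QuasiCompact bW := MorphismProperty.of_isPullback (P := @QuasiCompact) cW inferInstance
  haveI : QuasiSeparated bW := MorphismProperty.of_isPullback (P := @QuasiSeparated) cW inferInstance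
  haveI := EtSite.preservesFiniteLimits_pull bW
  suffices hb : Function.Bijective (EtCore.Hpull bW (ConstSect.K KA (Spec (CommRingCat.of N))) q) by
    have h := (Equiv.ofBijective _ hb).symm.subsingleton
    exact @Equiv.subsingleton _ _ ((EtCoh.HF W q).mapIso
      ((EtCore.pullConstIso bW).app KA)).addCommGroupIsoToAddEquiv.symm.toEquiv h
  refine bijective_of_stalks bW _ (m + 1) (fun n => ?_) q hqm
  let O := (Spec (CommRingCat.of N)).presheaf.stalk n
  letI : Algebra N O := (StructureSheaf.toStalk N n).hom.toAlgebra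
  haveI : IsLocalization.AtPrime O n.asIdeal := StructureSheaf.IsLocalization.to_stalk N n
  haveI : IsDomain O := by
    haveI := hdom n.asIdeal
    exact (IsLocalization.algEquiv n.asIdeal.primeCompl O (Localization.AtPrime n.asIdeal)).toMulEquiv.isDomain _
  have hO : L20.IntCover.HasRoots O := L20.IntCover.hasRoots_localization hroots n.asIdeal.primeCompl
  haveI : HenselianLocalRing O := L20.IntCover.henselianLocalRing hO
  haveI : IsAlgClosed (ResidueField O) := IsAlgClosed.of_exists_root _ fun p hp hirr => by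
    obtain ⟨P, hP, hdeg, hmon⟩ := Polynomial.lifts_and_natDegree_eq_and_monic
      (Polynomial.map_surjective (residue O) IsLocalRing.residue_surjective p |> fun ⟨P, hP⟩ =>
        (⟨P, hP⟩ : p ∈ Polynomial.lifts (residue O))) hp
    obtain ⟨x, hx⟩ := hO P hmon (hdeg ▸ hirr.natDegree_pos)
    exact ⟨residue O x, by rw [← hP, Polynomial.eval_map, Polynomial.eval₂_at_apply, hx.eq_zero, map_zero]⟩
  haveI : IsLocalHom (algebraMap O O) := ⟨fun _ h => h⟩
  haveI : Hensel.IsStrictHenselization ((Spec (CommRingCat.of N)).presheaf.stalk n) O :=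
    Groth.L05.HensTensor.isStrictHenselization_self O
  let r := sR n
  obtain ⟨R', _, _, _, _, hR'⟩ := L05.Henselization.exists_isStrictHenselization
    ((Spec (CommRingCat.of R)).presheaf.stalk r)
  haveI := hR'
  obtain ⟨_, _⟩ := StalkBC.henselian_strict r R'
  obtain ⟨φ, _, hφ⟩ := StalkBC.exists_strictMap sR n R' O
  have hφi := isIntegral_strictMap sR n R' O φ hφ
  letI : Algebra R' O := φ.toAlgebra
  haveI : Algebra.IsIntegral R' O := algebraMap_isIntegral_iff.mp hφi
  let ηr := Hens2.specOf (Spec (CommRingCat.of R)) r R'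
  let ηn := Hens2.specOf (Spec (CommRingCat.of N)) n O
  have hφη : Spec.map (CommRingCat.ofHom φ) ≫ ηr = ηn ≫ sR := StalkBC.specOf_comp sR n R' O φ hφ
  obtain ⟨hloc', hf'⟩ := strictBase g hloc hf r R'
  let g' := pullback.snd g ηr
  haveI : QuasiCompact g' := MorphismProperty.pullback_snd (P := @QuasiCompact) _ _ inferInstance
  haveI : QuasiSeparated g' := MorphismProperty.pullback_snd (P := @QuasiSeparated) _ _ inferInstance
  let WO := pullback bW ηn
  let w : WO ⟶ pullback g ηr :=
    pullback.lift (pullback.fst bW ηn ≫ a) (pullback.snd bW ηn ≫ Spec.map (CommRingCat.ofHom φ))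
      (by
        rw [Category.assoc, cW.w, ← Category.assoc, pullback.condition, Category.assoc]
        exact (congrArg (pullback.snd bW ηn ≫ ·) hφη.symm).trans (Category.assoc _ _ _).symm)
  have cO : IsPullback w (pullback.snd bW ηn) g' (Spec.map (CommRingCat.ofHom φ)) := by
    refine IsPullback.of_right (v₁₃ := g) (h₁₂ := pullback.fst g ηr) (h₂₂ := ηr) ?_ (pullback.lift_snd _ _ _)
      (IsPullback.of_hasPullback g ηr)
    exact isPullback_congr (pullback.lift_fst _ _ _).symm hφη.symm ((IsPullback.of_hasPullback bW ηn).paste_horiz cW)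
  let k := pullback.snd bW ηn
  haveI := EtSite.preservesFiniteLimits_pull k
  haveI := EtSite.preservesFiniteLimits_pull ηn
  haveI : QuasiCompact k := MorphismProperty.pullback_snd (P := @QuasiCompact) _ _ inferInstance
  haveI : QuasiSeparated k := MorphismProperty.pullback_snd (P := @QuasiSeparated) _ _ inferInstance
  haveI : CompactSpace WO := QuasiCompact.compactSpace_of_compactSpace k
  haveI : QuasiSeparatedSpace WO := quasiSeparatedSpace_of_quasiSeparated k
  refine ⟨ResidueField O, inferInstance, inferInstance, Hens2.geomPt _ n O, ?_, ?_⟩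
  · refine (Scheme.Hom.comp_apply _ _ _).trans (Eq.trans
      (congrArg (Hens2.specOf (Spec (CommRingCat.of N)) n O) ?_) (specOf_closedPoint n O))
    rw [Subsingleton.elim (default : Spec (CommRingCat.of (ResidueField O))) (closedPoint (ResidueField O))]
    exact IsLocalRing.comap_closedPoint (residue O)
  refine stalk_acyclic_le bW n O _ (m + 1) fun p hp => ?_
  refine bijective_Hpull_congr k ((EtCore.pullConstIso ηn).app KA).symm p ?_
  rcases Nat.eq_zero_or_pos p with rfl | hp0
  · -- connectedness through degree zero over the strictly local base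
    obtain ⟨ℓ, hℓL, hℓ⟩ := hL
    haveI : Fact ℓ.Prime := ⟨hℓ⟩
    haveI : NeZero ℓ := ⟨hℓ.ne_zero⟩
    let sφ := Spec.map (CommRingCat.ofHom φ)
    haveI : IsIntegralHom sφ := IsIntegralHom.SpecMap_iff.2 hφi
    haveI : IsIntegralHom w := MorphismProperty.of_isPullback (P := @IsIntegralHom) cO.flip inferInstance
    let C := EtCoh.const (Spec (CommRingCat.of O)) (ZMod ℓ)
    haveI := EtSite.preservesFiniteLimits_pull g'
    haveI := EtSite.preservesFiniteLimits_pull sφ
    haveI := EtSite.preservesFiniteLimits_pull w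
    have hb := bijective_zero R' g' (surjStrict_of_loc g' L ⟨ℓ, hℓL, hℓ⟩ m hloc')
      (geomFibres_mono (Nat.zero_le _) hf') ((EtCoh.push sφ).obj C)
    haveI := EtSite.BC.isIso_baseChange0 cO.flip C
    let i₁ := (EtCoh.HF (pullback g ηr) 0).mapIso (asIso (EtCoh.baseChange0 sφ g' w k cO.flip.w C) ≪≫
      (EtCoh.push w).mapIso (EtCore.pullConst k (ZMod ℓ)))
    have hw := EtSite.bijective_HofPush w (EtCoh.const WO (ZMod ℓ))
      (fun p hp => EtSite.isZero_Rpush_of_propB w (EtSite.propB_of_isIntegralHom w) _ p hp) 0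
    have hs := EtSite.bijective_HofPush sφ C
      (fun p hp => EtSite.isZero_Rpush_of_propB sφ (EtSite.propB_of_isIntegralHom sφ) _ p hp) 0
    let e : EtCoh.H WO (EtCoh.const WO (ZMod ℓ)) 0 ≃+ ZMod ℓ :=
      ((((AddEquiv.ofBijective _ hw).symm.trans i₁.addCommGroupIsoToAddEquiv.symm).trans
        (AddEquiv.ofBijective _ hb).symm).trans (AddEquiv.ofBijective _ hs)).trans (FinBC.isPt_strict (n := ℓ) O).2.some
    obtain ⟨_, _⟩ := connectedSpace_of_H0 WO ⟨e⟩
    haveI : ConnectedSpace ↥(Spec (CommRingCat.of O)) := FinBC.connectedSpace_local O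
    exact bijective_Hpull_zero_K k KA
  · haveI := EtSite.subsingleton_H O (ConstSect.K KA _) p hp0
    haveI : Subsingleton (EtCoh.H WO (ConstSect.K KA WO) p) :=
      subsingleton_H_domain g' L hL m hloc' hf' O hO w k cO KA hA p hp0 hp
    haveI : Subsingleton (EtCoh.H WO ((EtCoh.pull k).obj (ConstSect.K KA _)) p) :=
      @Equiv.subsingleton _ _ ((EtCoh.HF WO p).mapIso ((EtCore.pullConstIso k).app KA)).addCommGroupIsoToAddEquiv.toEquiv this
    exact ⟨fun _ _ _ => Subsingleton.elim _ _, fun b => ⟨0, Subsingleton.elim _ _⟩⟩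

end Groth.L27.XV
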