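import Groth.Agent.L27.XV.Product
import Groth.Agent.L27.DerBC.Killed
import Groth.Agent.L28.Strata.Serre
import Groth.Agent.L28.EtTor.Basic
import Groth.Agent.S0091

/-! # Constructible sheaves on affine schemes embed into acyclic pushforwards from products of points -/

universe u

open CategoryTheory CategoryTheory.Limits AlgebraicGeometry Opposite IsLocalRing Abelian

set_option backward.isDefEq.respectTransparency.types false
set_option linter.style.haveILetI false
set_option linter.unusedSectionVars false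

noncomputable section

namespace Groth.L27.XV

open Groth.L27.LimCoh Groth.L27.LimBC Groth.L27.FinBC Groth.L27.AffineEfface

/-- A map to a pushforward from a product of points detecting a set of points. -/
theorem exists_detect_spec {R : Type u} [CommRing R] (F : EtCoh.Ab (Spec (CommRingCat.of R)))
    (S : Set (Spec (CommRingCat.of R))) (M : Type) [AddCommGroup M] [Finite M]
    (hS : ∀ x ∈ S, ∀ (Ω : Type u) [Field Ω] [IsSepClosed Ω] (ξ : Spec (CommRingCat.of Ω) ⟶ Spec (CommRingCat.of R)),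
      ξ.base default = x → Nonempty ((EtCoh.stalk ξ).obj F ≅ AddCommGrpCat.of (ULift.{u + 1} M))) :
    ∃ (K : S → Type u) (_ : ∀ s, Field (K s)) (_ : ∀ s, IsAlgClosed (K s)) (_ : ∀ s, Algebra R (K s))
      (φ : F ⟶ (EtCoh.push (Spec.map (CommRingCat.ofHom (algebraMap R (PR R K))))).obj (EtCoh.const _ M)),
      ∀ x ∈ S, ∃ (Ω : Type u) (_ : Field Ω) (_ : IsSepClosed Ω) (ξ : Spec (CommRingCat.of Ω) ⟶ Spec (CommRingCat.of R)),
        ξ.base default = x ∧ Function.Injective ((EtCoh.stalk ξ).map φ) := by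
  let K : S → Type u := fun s => Kbar (s : Spec (CommRingCat.of R))
  let h : ∀ s : S, CommRingCat.of R ⟶ CommRingCat.of (K s) :=
    fun s => Spec.preimage (geom (s : Spec (CommRingCat.of R)))
  letI iAlg : ∀ s : S, Algebra R (K s) := fun s => (h s).hom.toAlgebra
  obtain ⟨T, hT₁, hT₂, hT₃, j, hj, hN⟩ := exists_closedImmersion R K
  haveI := hj
  let Q := PR R K
  let Y := Spec (CommRingCat.of Q)
  let ν : Y ⟶ Spec (CommRingCat.of R) := Spec.map (CommRingCat.ofHom (algebraMap R Q))
  haveI : IsIntegralHom ν := IsIntegralHom.SpecMap_iff.2 (algebraMap_isIntegral_iff.2 inferInstance)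
  let p : ∀ s : S, Spec (CommRingCat.of (K s)) ⟶ Y := fun s => Spec.map (CommRingCat.ofHom (coord R K s))
  have hpν : ∀ s : S, p s ≫ ν = geom (s : Spec (CommRingCat.of R)) := fun s => by
    have hc : CommRingCat.ofHom (algebraMap R Q) ≫ CommRingCat.ofHom (coord R K s) = h s := rfl
    show Spec.map _ ≫ Spec.map _ = _
    rw [← Spec.map_comp, hc, Spec.map_preimage]
  have hp : ∀ (s : S) (r : Q), (p s) default ∈ PrimeSpectrum.basicOpen r ↔ coord R K s r ≠ 0 := by
    intro s r
    let d : PrimeSpectrum (K s) := (default : Spec (CommRingCat.of (K s)))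
    have h0 : d.asIdeal = ⊥ := (Ideal.eq_bot_or_top _).resolve_right d.isPrime.ne_top
    show r ∉ d.asIdeal.comap (coord R K s) ↔ _
    rw [Ideal.mem_comap, h0, Ideal.mem_bot]
  have hE : ∀ P : Set S, ∃ C : Y.Opens, IsClosed (C : Set Y) ∧ ∀ s, (p s) default ∈ C ↔ s ∈ P := by
    intro P
    obtain ⟨e, he, hQ⟩ := exists_idempotent R K P
    refine ⟨PrimeSpectrum.basicOpen e, ?_, fun s => (hp s e).trans ?_⟩
    · exact (PrimeSpectrum.isClopen_iff.2 ⟨e, he, rfl⟩).1
    · by_cases hs : s ∈ P <;> simp [hs, (hQ s).1, (hQ s).2]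
  have hD : ∀ O : Y.Opens, (O : Set Y).Nonempty → ∃ s, (p s) default ∈ O := by
    rintro O ⟨y, hy⟩
    obtain ⟨_, ⟨r, rfl⟩, hyr, hrO⟩ :=
      PrimeSpectrum.isTopologicalBasis_basic_opens.exists_subset_of_mem_open hy O.2
    by_contra hne
    push Not at hne
    have hr : r = 0 := eq_zero_of_coord R K r fun s => by_contra fun h => hne s (hrO ((hp s r).2 h))
    rw [hr] at hyr
    simp at hyr
  let A : AddCommGrpCat.{u + 1} := AddCommGrpCat.of (ULift.{u + 1} M)
  haveI : ∀ s : S, IsSepClosed (IsLocalRing.ResidueField (K s)) := fun s => isSepClosed_residueField _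
  let ζ : ∀ s : S, Spec (CommRingCat.of (IsLocalRing.ResidueField (K s))) ⟶ Y :=
    fun s => EtSite.closedPt (K s) ≫ p s
  have hζ : ∀ s : S, (ζ s ≫ ν) default = (s : Spec (CommRingCat.of R)) := fun s => by
    rw [Category.assoc, hpν, Scheme.Hom.comp_apply]
    exact (congrArg (geom (s : Spec (CommRingCat.of R)))
      (Subsingleton.elim (α := PrimeSpectrum (K s)) _ _)).trans (geom_default _)
  have hiso : ∀ s : S, Nonempty ((EtCoh.pull (p s)).obj ((EtCoh.pull ν).obj F) ≅
      ConstSect.K A (Spec (CommRingCat.of (K s)))) := fun s => by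
    obtain ⟨e⟩ := hS s s.2 _ (ζ s ≫ ν) (hζ s)
    exact exists_iso_const (K s) _ A ((EtSite.stalkPullIso (p s) (EtSite.closedPt (K s))).app _ ≪≫
      (EtSite.stalkPullIso ν (ζ s)).app F ≪≫ e)
  let u₀ : (EtCoh.pull ν).obj F ⟶ skyProd p A :=
    Pi.lift fun s => (EtCoh.pullPushAdj (p s)).homEquiv _ _ (hiso s).some.hom
  haveI : Finite A := inferInstanceAs (Finite (ULift.{u + 1} M))
  haveI := isIso_θ p A hN j hE hD
  let ψ : (EtCoh.pull ν).obj F ⟶ ConstSect.K A Y := u₀ ≫ inv (θ p A)
  have hψ : ∀ s, ψ ≫ ConstSect.cmp A (p s) = (EtCoh.pullPushAdj (p s)).homEquiv _ _ (hiso s).some.hom := fun s => by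
    rw [show ConstSect.cmp A (p s) = θ p A ≫ Pi.π _ s from
      (limit.lift_π (Fan.mk _ fun s => ConstSect.cmp A (p s)) ⟨s⟩).symm]
    show (u₀ ≫ inv (θ p A)) ≫ θ p A ≫ _ = _
    rw [Category.assoc, IsIso.inv_hom_id_assoc]
    exact limit.lift_π _ _
  let φ : F ⟶ (EtCoh.push ν).obj (EtCoh.const Y M) := (EtCoh.pullPushAdj ν).homEquiv _ _ ψ
  refine ⟨K, inferInstance, inferInstance, iAlg, φ, fun x hx => ?_⟩
  let s : S := ⟨x, hx⟩
  refine ⟨_, inferInstance, inferInstance, ζ s ≫ ν, hζ s, ?_⟩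
  have hc : ConstSect.cmp A (p s) = (EtCoh.pullPushAdj (p s)).homEquiv _ _ ((EtCore.pullConstIso (p s)).hom.app A) :=
    (Adjunction.homEquiv_unit _ _ _ _).symm
  have h1 := hψ s
  rw [hc, ← Adjunction.homEquiv_naturality_left] at h1
  have h2 := ((EtCoh.pullPushAdj (p s)).homEquiv _ _).injective h1
  haveI : IsIso ((EtCoh.pull (p s)).map ψ ≫ (EtCore.pullConstIso (p s)).hom.app A) := by rw [h2]; infer_instance
  haveI : IsIso ((EtCoh.pull (p s)).map ψ) := IsIso.of_isIso_comp_right _ ((EtCore.pullConstIso (p s)).hom.app A)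
  have hψinj : Function.Injective ((EtCoh.stalk (ζ s)).map ψ) := by
    haveI : IsIso ((EtCoh.stalk (ζ s)).map ψ) :=
      (NatIso.isIso_map_iff (EtSite.stalkPullIso (p s) (EtSite.closedPt (K s))) ψ).1
        (inferInstanceAs (IsIso ((EtCoh.stalk (EtSite.closedPt (K s))).map ((EtCoh.pull (p s)).map ψ))))
    exact (ConcreteCategory.bijective_of_isIso _).1
  have hψφ : (EtCoh.pull ν).map φ ≫ (EtCoh.pullPushAdj ν).counit.app _ = ψ := by
    exact ((EtCoh.pullPushAdj ν).homEquiv_counit _ _ φ).symm.trans (Equiv.symm_apply_apply _ _)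
  have hφ : Function.Injective ((EtCoh.stalk (ζ s)).map ((EtCoh.pull ν).map φ)) := fun a b hab => hψinj (by
    rw [← hψφ, Functor.map_comp, ConcreteCategory.comp_apply, ConcreteCategory.comp_apply, hab])
  intro a b hab
  obtain ⟨a', rfl⟩ := (ConcreteCategory.bijective_of_isIso ((EtSite.stalkPullIso ν (ζ s)).hom.app F)).2 a
  obtain ⟨b', rfl⟩ := (ConcreteCategory.bijective_of_isIso ((EtSite.stalkPullIso ν (ζ s)).hom.app F)).2 b
  refine congrArg ((EtSite.stalkPullIso ν (ζ s)).hom.app F) (hφ ?_)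
  refine (ConcreteCategory.bijective_of_isIso ((EtSite.stalkPullIso ν (ζ s)).hom.app _)).1 ?_
  have hn := (EtSite.stalkPullIso ν (ζ s)).hom.naturality φ
  exact (ConcreteCategory.congr_hom hn a').trans (hab.trans (ConcreteCategory.congr_hom hn b').symm)

/-- Killed constructible sheaves embed into killed sheaves that are acyclic upstairs and downstairs. -/
theorem exists_mono_acyclic_pull {R : Type u} [CommRing R] {X : Scheme.{u}} (g : X ⟶ Spec (CommRingCat.of R))
    [QuasiCompact g] [QuasiSeparated g] [PreservesFiniteLimits (EtCoh.pull g)] (L : Set ℕ)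
    (hL : ∃ ℓ ∈ L, ℓ.Prime) (m : ℕ) (hloc : EtAcyc.IsLocAcyclicN g L m)
    (hf : EtAcyc.GeomFibresAcyclicN L (m + 1) g) {F : EtCoh.Ab (Spec (CommRingCat.of R))}
    (hF : EtPBC.IsConstructible F) (hk : DerBC.Killed L F) :
    ∃ (G : EtCoh.Ab (Spec (CommRingCat.of R))) (φ : F ⟶ G), Mono φ ∧ DerBC.Killed L G ∧
      (∀ q : ℕ, 1 ≤ q → Subsingleton (EtCoh.H (Spec (CommRingCat.of R)) G q)) ∧
      ∀ q : ℕ, 1 ≤ q → q ≤ m + 1 → Subsingleton (EtCoh.H X ((EtCoh.pull g).obj G) q) := by
  classical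
  obtain ⟨N, hN, hN0⟩ := hk
  obtain ⟨n, M₀, iM, fM, hM⟩ := exists_finite_types hF
  choose k₀ hk₀ using hM
  let C := {c : Fin n // ∃ x, k₀ x = c}
  let M : C → Type := fun c => M₀ c.1
  let k : Spec (CommRingCat.of R) → C := fun x => ⟨k₀ x, x, rfl⟩
  have hMN : ∀ (c : C) (t : M c), N • t = 0 := by
    rintro ⟨c, x, rfl⟩ t
    obtain ⟨Ω, _, _, ξ, hξ⟩ := EtSite.exists_geometric_point x
    obtain ⟨e⟩ := hk₀ x Ω ξ hξ
    haveI : (EtCoh.stalk ξ).Additive := Functor.additive_of_preserves_binary_products _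
    obtain ⟨v, hv⟩ := (ConcreteCategory.bijective_of_isIso e.hom).2 (ULift.up t)
    have h0 : (EtCoh.stalk ξ).map (N • 𝟙 F) v = 0 := by
      rw [hN0, Functor.map_zero]; rfl
    rw [Functor.map_nsmul, CategoryTheory.Functor.map_id] at h0
    have h1 : N • v = 0 := by
      let ev : ((EtCoh.stalk ξ).obj F ⟶ (EtCoh.stalk ξ).obj F) →+ (EtCoh.stalk ξ).obj F :=
        AddMonoidHom.mk' (fun g => g v) fun _ _ => rfl
      exact (congrArg (N • ·) (ConcreteCategory.id_apply (X := (EtCoh.stalk ξ).obj F) v).symm).trans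
        ((map_nsmul ev N (𝟙 _)).symm.trans h0)
    have h2 : N • (ULift.up t : ULift.{u + 1} (M₀ (k₀ x))) = 0 := by
      rw [← hv]; exact (map_nsmul e.hom.hom N v).symm.trans ((congrArg _ h1).trans (map_zero _))
    exact congrArg ULift.down h2
  have hdet := fun c : C => exists_detect_spec F {x | k x = c} (M c) fun x hx Ω _ _ ξ hξ => by
    obtain rfl : k x = c := hx
    exact hk₀ x Ω ξ hξ
  choose K iK aK alK φ hinj using hdet
  let Y : C → Scheme.{u} := fun c => Spec (CommRingCat.of (PR R (K c)))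
  let ν : ∀ c, Y c ⟶ Spec (CommRingCat.of R) := fun c => Spec.map (CommRingCat.ofHom (algebraMap R (PR R (K c))))
  haveI hν : ∀ c, IsIntegralHom (ν c) := fun c => IsIntegralHom.SpecMap_iff.2 (algebraMap_isIntegral_iff.2 inferInstance)
  have hY : ∀ c (q : ℕ), 1 ≤ q → Subsingleton (EtCoh.H (Y c) (EtCoh.const (Y c) (M c)) q) := fun c q hq => by
    obtain ⟨T, hT₁, hT₂, hT₃, j, hj, hNT⟩ := exists_closedImmersion R (K c)
    haveI := hj
    exact Groth.Agent.S0091.result hNT j (M c) q hq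
  let f : C → EtCoh.Ab (Spec (CommRingCat.of R)) := fun c => (EtCoh.push (ν c)).obj (EtCoh.const (Y c) (M c))
  have hNM : ∀ c, N • 𝟙 (EtCoh.const (Y c) (M c)) = 0 := fun c => by
    haveI : (EtCore.gsec (Y c)).Additive := { }
    haveI : (constantSheaf (Y c).smallEtaleTopology AddCommGrpCat.{u + 1}).Additive :=
      (EtCore.constAdj (Y c)).left_adjoint_additive
    have h : N • 𝟙 (AddCommGrpCat.of (ULift.{u + 1} (M c))) = 0 := by
      refine ConcreteCategory.hom_ext _ _ fun t => ?_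
      let e : (AddCommGrpCat.of (ULift.{u + 1} (M c)) ⟶ AddCommGrpCat.of (ULift.{u + 1} (M c))) →+
          ULift.{u + 1} (M c) := AddMonoidHom.mk' (fun g => g t) fun _ _ => rfl
      exact (map_nsmul e N (𝟙 _)).trans (ULift.ext _ _ (hMN c (t : ULift.{u + 1} (M c)).down))
    show N • 𝟙 ((constantSheaf (Y c).smallEtaleTopology AddCommGrpCat.{u + 1}).obj _) = 0
    rw [← CategoryTheory.Functor.map_id, ← Functor.map_nsmul, h, Functor.map_zero]
  have hzero : ∀ (P : EtCoh.Ab (Spec (CommRingCat.of R)) ⥤ AddCommGrpCat.{u + 1}) [P.Additive],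
      (∀ c, Subsingleton (P.obj (f c))) → Subsingleton (P.obj (⨁ f)) := fun P _ hP => by
    refine subsingleton_of_forall_eq 0 fun x => ?_
    have h := congrArg (fun ψ => ψ x) (congrArg P.map (biproduct.total (f := f)))
    simp only [Functor.map_sum, CategoryTheory.Functor.map_id] at h
    let ev : (P.obj (⨁ f) ⟶ P.obj (⨁ f)) →+ P.obj (⨁ f) := AddMonoidHom.mk' (fun g => g x) fun _ _ => rfl
    refine (ConcreteCategory.id_apply (X := P.obj (⨁ f)) x).symm.trans (h.symm.trans ((map_sum ev _ _).trans ?_))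
    exact Finset.sum_eq_zero fun c _ => by
      show (P.map _) x = 0
      rw [Functor.map_comp, ConcreteCategory.comp_apply, Subsingleton.elim ((P.map (biproduct.π f c)) x) 0, map_zero]
  refine ⟨⨁ f, biproduct.lift φ, ?_, ?_, fun q hq => ?_, fun q hq hqm => ?_⟩
  · haveI : Sheaf.IsLocallyInjective (biproduct.lift φ) := by
      refine EtSite.isLocallyInjective_of_some_stalks _ fun x => ?_
      obtain ⟨Ω, _, _, ξ, hξ, hi⟩ := hinj (k x) x rfl
      refine ⟨Ω, inferInstance, inferInstance, ξ, hξ, fun a b hab => hi ?_⟩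
      have h := congrArg ((EtCoh.stalk ξ).map (biproduct.π f (k x))) hab
      have e : (EtCoh.stalk ξ).map (biproduct.lift φ) ≫ (EtCoh.stalk ξ).map (biproduct.π f (k x)) =
          (EtCoh.stalk ξ).map (φ (k x)) := by rw [← Functor.map_comp, biproduct.lift_π]
      exact (ConcreteCategory.congr_hom e a).symm.trans (h.trans (ConcreteCategory.congr_hom e b))
    exact Sheaf.mono_of_isLocallyInjective _
  · refine ⟨N, hN, biproduct.hom_ext' _ _ fun c => ?_⟩
    rw [Preadditive.comp_nsmul, Category.comp_id, comp_zero, ← Category.id_comp (biproduct.ι f c),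
      ← Preadditive.nsmul_comp, nsmul_id_push (ν c) _ (hNM c), zero_comp]
  · haveI : (EtCoh.HF (Spec (CommRingCat.of R)) q).Additive := inferInstance
    refine hzero (EtCoh.HF _ q) fun c => ?_
    haveI := EtSite.preservesFiniteLimits_pull (ν c)
    haveI := hY c q hq
    exact (Equiv.ofBijective _ (EtSite.bijective_HofPush (ν c) (EtCoh.const (Y c) (M c)) (fun p hp =>
      EtSite.isZero_Rpush_of_propB (ν c) (EtSite.propB_of_isIntegralHom (ν c)) _ p hp) q)).subsingleton
  · haveI : (EtCoh.pull g).Additive := (EtCoh.pullPushAdj g).left_adjoint_additive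
    refine hzero (EtCoh.pull g ⋙ EtCoh.HF X q) fun c => ?_
    let w := pullback.fst g (ν c)
    let kc := pullback.snd g (ν c)
    haveI : IsIntegralHom w := MorphismProperty.pullback_fst (P := @IsIntegralHom) _ _ inferInstance
    haveI := EtSite.preservesFiniteLimits_pull w
    haveI := EtSite.preservesFiniteLimits_pull (ν c)
    haveI := hY c q hq
    haveI : Subsingleton (EtCoh.H (pullback g (ν c)) (EtCoh.const _ (M c)) q) :=
      @subsingleton_H_localDomain R _ X g _ _ L hL m hloc hf (PR R (K c)) _ _ inferInstance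
        L20.IntCover.hasRoots_closure (fun t ht => @L20.IntCover.isDomain_localization _ _ _ _ _ _ _ t ht)
        _ w kc (IsPullback.of_hasPullback g (ν c)) (AddCommGrpCat.of (ULift.{u + 1} (M c)))
        (fun t => ⟨N, hN, ULift.ext _ _ (hMN c t.down)⟩) q hq hqm (hY c q hq)
    haveI := EtSite.BC.isIso_baseChange0 (IsPullback.of_hasPullback g (ν c)).flip (EtCoh.const (Y c) (M c))
    let i₁ := (EtCoh.HF X q).mapIso (asIso (EtCoh.baseChange0 (ν c) g w kc
        (IsPullback.of_hasPullback g (ν c)).flip.w (EtCoh.const (Y c) (M c))) ≪≫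
      (EtCoh.push w).mapIso (EtCore.pullConst kc (M c)))
    have h1 : Subsingleton (EtCoh.H X ((EtCoh.push w).obj (EtCoh.const _ (M c))) q) :=
      (Equiv.ofBijective _ (EtSite.bijective_HofPush w (EtCoh.const (pullback g (ν c)) (M c)) (fun p hp =>
        EtSite.isZero_Rpush_of_propB w (EtSite.propB_of_isIntegralHom w) _ p hp) q)).subsingleton
    exact @Equiv.subsingleton _ _ i₁.addCommGroupIsoToAddEquiv.toEquiv h1

end Groth.L27.XV
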