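import Groth.Agent.L27.XV.GenericInj
import Groth.Agent.L27.CompTransfer.Edge
import Groth.Agent.L27.CompTransfer.Torsion
import Groth.Agent.L27.AffineEfface.Effacement
import Groth.Agent.L28.Pts.Constr

/-! # Edge maps when higher direct images vanish along a cohomologically dominant closed subscheme -/

universe u

open CategoryTheory CategoryTheory.Limits AlgebraicGeometry Opposite IsLocalRing Abelian

set_option backward.isDefEq.respectTransparency.types false
set_option linter.style.haveILetI false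
set_option linter.unusedSectionVars false

noncomputable section

namespace Groth.L27.XV

open Groth.L27.LimCoh Groth.L27.LimBC Groth.L27.FinBC Groth.L27.CompTransfer

/-- The hypothesis that torsion cohomology is read on a closed subscheme. -/
def Dominant {X Xs : Scheme.{u}} (i : Xs ⟶ X) [PreservesFiniteLimits (EtCoh.pull i)] : Prop :=
  ∀ (q : ℕ) (F : EtCoh.Ab X), EtCoh.IsTorsion F → Function.Bijective (EtCore.Hpull i F q)

/-- A stalkwise isomorphism on the closed subscheme is bijective on cohomology. -/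
theorem bijective_HF_of_dominant {X Xs : Scheme.{u}} (i : Xs ⟶ X) [IsPreimmersion i]
    [PreservesFiniteLimits (EtCoh.pull i)] (hi : Dominant i) {F G : EtCoh.Ab X} (φ : F ⟶ G) (L : Set ℕ)
    (hF : EtAcyc.IsLTorsion L F) (hG : EtAcyc.IsLTorsion L G)
    (h : ∀ y : Xs, ∃ (K : Type u) (_ : Field K) (_ : IsSepClosed K) (ξ : Spec (CommRingCat.of K) ⟶ X),
      ξ.base default = i y ∧ Function.Bijective ((EtCoh.stalk ξ).map φ)) (q : ℕ) :
    Function.Bijective ((EtCoh.HF X q).map φ) := by
  let ψ := (EtCoh.pull i).map φ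
  have key : ∀ y : Xs, ∃ (K : Type u) (_ : Field K) (_ : IsSepClosed K) (v : Spec (CommRingCat.of K) ⟶ Xs),
      v.base default = y ∧ Function.Bijective ((EtCoh.stalk v).map ψ) := by
    intro y
    obtain ⟨K, _, _, ξ, hξ, hb⟩ := h y
    obtain ⟨v, hv⟩ := Groth.L28.EtModStalk.exists_lift i ξ ⟨y, hξ.symm⟩
    refine ⟨K, inferInstance, inferInstance, v, i.isEmbedding.injective ?_, (bijective_stalk_comp i v hv φ).2 hb⟩
    rw [← hξ, ← hv]
    exact (Scheme.Hom.comp_apply _ _ _).symm
  haveI : Mono ψ := by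
    have : Sheaf.IsLocallyInjective ψ := EtSite.isLocallyInjective_of_some_stalks _ fun y => by
      obtain ⟨K, _, _, v, hv, hb⟩ := key y
      exact ⟨K, _, inferInstance, v, hv, hb.1⟩
    exact Sheaf.mono_of_isLocallyInjective _
  haveI : Epi ψ :=
    (Sheaf.isLocallySurjective_iff_epi' (φ := ψ)).1 (EtSite.isLocallySurjective_of_some_stalks _ fun y => by
      obtain ⟨K, _, _, v, hv, hb⟩ := key y
      exact ⟨K, _, inferInstance, v, hv, hb.2⟩)
  haveI : IsIso ψ := isIso_of_mono_of_epi ψ
  have hbF := hi q F (AffineEfface.isTorsion_of_isLTorsion hF)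
  have hbG := hi q G (AffineEfface.isTorsion_of_isLTorsion hG)
  refine (Function.Bijective.of_comp_iff' hbG _).1 ?_
  rw [show EtCore.Hpull i G q ∘ (EtCoh.HF X q).map φ = (EtCoh.HF Xs q).map ψ ∘ EtCore.Hpull i F q from
    funext fun e => Hpull_map i φ q e]
  exact (ConcreteCategory.bijective_of_isIso ((EtCoh.HF Xs q).map ψ)).comp hbF

/-- Vanishing of the higher direct images at the points of the closed subscheme. -/
def VanishOn {W X Xs : Scheme.{u}} (j : W ⟶ X) (i : Xs ⟶ X) (G : EtCoh.Ab W) (m : ℕ) : Prop :=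
  ∀ (y : Xs) (R : Type u) [CommRing R] [HenselianLocalRing R] [IsSepClosed (ResidueField R)]
    [Algebra (X.presheaf.stalk (i y)) R] [IsLocalHom (algebraMap (X.presheaf.stalk (i y)) R)]
    [Hensel.IsStrictHenselization (X.presheaf.stalk (i y)) R] (q : ℕ), 0 < q → q ≤ m →
    IsZero ((EtCoh.stalk (Hens2.geomPt X (i y) R)).obj ((EtCoh.Rpush j q).obj G))

/-- Edge maps along a cohomologically dominant closed subscheme. -/
theorem edge_dominant {W X Xs : Scheme.{u}} (j : W ⟶ X) [QuasiCompact j] [QuasiSeparated j]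
    [PreservesFiniteLimits (EtCoh.pull j)] [CompactSpace W] [QuasiSeparatedSpace W]
    (i : Xs ⟶ X) [IsPreimmersion i] [PreservesFiniteLimits (EtCoh.pull i)] (hi : Dominant i) (L : Set ℕ) :
    ∀ (m : ℕ) (G : EtCoh.Ab W), EtAcyc.IsLTorsion L G → VanishOn j i G m →
      (∀ k ≤ m, Function.Bijective (EtLim.HofPush j G k)) ∧ Function.Injective (EtLim.HofPush j G (m + 1)) := by
  intro m
  induction m with
  | zero =>
    intro G hG _
    refine ⟨fun k hk => by obtain rfl := Nat.le_zero.1 hk; exact bijective_HofPush_zero j G, ?_⟩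
    exact (edge j 0 G fun q h1 h2 => absurd h2 (by omega)).2
  | succ m ih =>
    intro G hG hV
    obtain ⟨hb, -⟩ := ih G hG fun y R _ _ _ _ _ _ q h1 h2 => hV y R q h1 (by omega)
    obtain ⟨G', φ, _, hG', hG'0, hG'R⟩ := exists_torsion_effacement L G hG
    let E := ShortComplex.mk φ (cokernel.π φ) (cokernel.condition φ)
    have hE : E.ShortExact := { exact := ShortComplex.exact_of_g_is_cokernel _ (cokernelIsCokernel φ) }
    have hQ : EtAcyc.IsLTorsion L E.X₃ := isLTorsion_of_epi (cokernel.π φ) hG'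
    let S := ShortComplex.mk ((EtCoh.push j).map φ) (cokernel.π ((EtCoh.push j).map φ)) (cokernel.condition _)
    haveI : PreservesLimitsOfSize.{0, 0} (EtCoh.push j) := (EtCoh.pullPushAdj j).rightAdjoint_preservesLimits
    have hS : S.ShortExact := { exact := ShortComplex.exact_of_g_is_cokernel _ (cokernelIsCokernel _) }
    let ι : S.X₃ ⟶ (EtCoh.push j).obj E.X₃ := cokernel.desc _ ((EtCoh.push j).map E.g)
      (by rw [← Functor.map_comp, E.zero, Functor.map_zero])
    haveI : Mono ι :=
      ((hE.exact.map_of_mono_of_preservesKernel (EtCoh.push j) hE.mono_f inferInstance).mono_cokernelDesc :)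
    -- cohomology on the strictly local base changes
    have hloc : ∀ (y : Xs) (R : Type u) [CommRing R] [HenselianLocalRing R] [IsSepClosed (ResidueField R)]
        [Algebra (X.presheaf.stalk (i y)) R] [IsLocalHom (algebraMap (X.presheaf.stalk (i y)) R)]
        [Hensel.IsStrictHenselization (X.presheaf.stalk (i y)) R],
        (∀ q : ℕ, 0 < q → q ≤ m →
          IsZero ((EtCoh.stalk (Hens2.geomPt X (i y) R)).obj ((EtCoh.Rpush j q).obj E.X₃))) ∧
        Epi ((EtCoh.stalk (Hens2.geomPt X (i y) R)).map ((EtCoh.push j).map E.g)) := by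
      intro y R _ _ _ _ _ _
      let ξ := Hens2.geomPt X (i y) R
      let gW := pullback.fst j (Hens2.specOf X (i y) R)
      let Z := pullback j (Hens2.specOf X (i y) R)
      haveI := EtSite.preservesFiniteLimits_pull gW
      have hEp := hE.map_of_exact (EtCoh.pull gW)
      have hG1 : ∀ q : ℕ, 0 < q → q ≤ m + 1 → Subsingleton (EtCoh.H Z ((EtCoh.pull gW).obj G) q) := by
        intro q h1 h2
        obtain ⟨e⟩ := StalkRpush.nonempty_natIso j (i y) R q
        exact AddCommGrpCat.subsingleton_of_isZero ((hV y R q h1 h2).of_iso (e.app G).symm)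
      refine ⟨fun q h1 h2 => ?_, ?_⟩
      · obtain ⟨e⟩ := StalkRpush.nonempty_natIso j (i y) R q
        refine IsZero.of_iso ?_ (e.app E.X₃)
        haveI : Subsingleton (EtCoh.H Z ((EtCoh.pull gW).obj G') q) := by
          obtain ⟨e'⟩ := StalkRpush.nonempty_natIso j (i y) R q
          exact AddCommGrpCat.subsingleton_of_isZero
            (((EtCoh.stalk ξ).map_isZero (hG'R j q h1)).of_iso (e'.app G').symm)
        haveI := hG1 (q + 1) (Nat.succ_pos q) (by omega)
        haveI : Subsingleton (EtCoh.H Z ((EtCoh.pull gW).obj E.X₃) q) := subsingleton_of_forall_eq 0 fun x => by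
          obtain ⟨z, rfl⟩ := exists_map_of_δH_eq_zero hEp q x
            (Subsingleton.elim (α := EtCoh.H Z ((EtCoh.pull gW).obj G) (q + 1)) _ _)
          exact (congrArg _ (Subsingleton.elim (α := EtCoh.H Z ((EtCoh.pull gW).obj G') q) z 0)).trans (map_zero _)
        exact AddCommGrpCat.isZero_of_subsingleton (AddCommGrpCat.of (EtCoh.H Z ((EtCoh.pull gW).obj E.X₃) q))
      · obtain ⟨e⟩ := StalkRpush.nonempty_natIso j (i y) R 0
        haveI := hG1 1 one_pos (by omega)
        haveI : Epi ((EtCoh.pull gW ⋙ EtCoh.HF Z 0).map E.g) := (AddCommGrpCat.epi_iff_surjective _).2 fun x => by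
          obtain ⟨z, hz⟩ := exists_map_of_δH_eq_zero hEp 0 x
            (Subsingleton.elim (α := EtCoh.H Z ((EtCoh.pull gW).obj G) 1) _ _)
          exact ⟨z, hz⟩
        haveI h0 : Epi ((EtCoh.Rpush j 0 ⋙ EtCoh.stalk ξ).map E.g) := by
          rw [← NatIso.naturality_2 e E.g]
          infer_instance
        let α := Functor.isoWhiskerRight (EtCoh.push j).rightDerivedZeroIsoSelf (EtCoh.stalk ξ)
        show Epi ((EtCoh.push j ⋙ EtCoh.stalk ξ).map E.g)
        rw [← NatIso.naturality_1 α E.g]
        exact epi_comp' inferInstance (epi_comp' h0 inferInstance)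
    have hι : ∀ k, Function.Bijective ((EtCoh.HF X k).map ι) := by
      intro k
      refine bijective_HF_of_dominant i hi ι L (isLTorsion_of_epi (cokernel.π _) (isLTorsion_push L j hG'))
        (isLTorsion_push L j hQ) (fun y => ?_) k
      obtain ⟨R, _, _, _, _, hR⟩ := L05.Henselization.exists_isStrictHenselization (X.presheaf.stalk (i y))
      haveI := hR
      obtain ⟨_, _⟩ := StalkBC.henselian_strict (i y) R
      refine ⟨ResidueField R, inferInstance, inferInstance, Hens2.geomPt X (i y) R, ?_, ?_⟩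
      · refine (Scheme.Hom.comp_apply _ _ _).trans (Eq.trans
          (congrArg (Hens2.specOf X (i y) R) ?_) (specOf_closedPoint (i y) R))
        rw [Subsingleton.elim (default : Spec (CommRingCat.of (ResidueField R))) (closedPoint (ResidueField R))]
        exact IsLocalRing.comap_closedPoint (residue R)
      · haveI : PreservesFiniteLimits (EtCoh.stalk (Hens2.geomPt X (i y) R)) := inferInstance
        haveI := (hloc y R).2
        haveI : Epi ((EtCoh.stalk (Hens2.geomPt X (i y) R)).map ι) := by
          refine @epi_of_epi_fac _ _ _ _ _ ((EtCoh.stalk (Hens2.geomPt X (i y) R)).map S.g) _ _ (hloc y R).2 ?_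
          rw [← Functor.map_comp]
          exact congrArg _ (cokernel.π_desc _ _ _)
        haveI : IsIso ((EtCoh.stalk (Hens2.geomPt X (i y) R)).map ι) := isIso_of_mono_of_epi _
        exact ConcreteCategory.bijective_of_isIso _
    have hb' := fun k => (edge j k G' fun q h1 _ => hG'R j q h1).1 k le_rfl
    let Φ : S.map (EtCoh.pull j) ⟶ E :=
      { τ₁ := (EtCoh.pullPushAdj j).counit.app E.X₁
        τ₂ := (EtCoh.pullPushAdj j).counit.app E.X₂
        τ₃ := (EtCoh.pull j).map ι ≫ (EtCoh.pullPushAdj j).counit.app E.X₃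
        comm₁₂ := ((EtCoh.pullPushAdj j).counit.naturality E.f).symm
        comm₂₃ := by
          refine Eq.trans ((EtCoh.pullPushAdj j).counit.naturality E.g).symm ?_
          show (EtCoh.pull j).map ((EtCoh.push j).map E.g) ≫ _ = (EtCoh.pull j).map (cokernel.π _) ≫ _ ≫ _
          rw [← Functor.map_comp_assoc, cokernel.π_desc] }
    let θ : ∀ n, EtCoh.H X S.X₃ n → EtCoh.H W E.X₃ n :=
      fun n c => EtLim.HofPush j E.X₃ n ((EtCoh.HF X n).map ι c)
    have hδ : ∀ (n : ℕ) (c : EtCoh.H X S.X₃ n), EtLim.HofPush j G (n + 1) (δH hS n c) = δH hE n (θ n c) := by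
      intro n c
      refine (HpullThen_δH j hS hE Φ n c).trans (congrArg (δH hE n) ?_)
      show _ = EtLim.HofPush j E.X₃ n ((EtCoh.HF X n).map ι c)
      rw [EtSite.HofPush_def, HpullThen_apply, Hpull_map, ← HF_map_comp]
      rfl
    have hθ : ∀ (n : ℕ) (z : EtCoh.H X S.X₂ n),
        θ n ((EtCoh.HF X n).map S.g z) = (EtCoh.HF W n).map E.g (EtLim.HofPush j G' n z) := by
      intro n z
      show EtLim.HofPush j E.X₃ n ((EtCoh.HF X n).map ι ((EtCoh.HF X n).map S.g z)) = _
      rw [← HF_map_comp, show S.g ≫ ι = (EtCoh.push j).map E.g from cokernel.π_desc _ _ _]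
      exact HofPush_map j E.g n z
    obtain ⟨hQb, hQi⟩ := ih E.X₃ hQ fun y R _ _ _ _ _ _ q h1 h2 => (hloc y R).1 q h1 h2
    have hX : ∀ n, Subsingleton (EtCoh.H X ((EtCoh.push j).obj G') (n + 1)) := fun n => by
      haveI := hG'0 n
      exact (Equiv.ofBijective _ (hb' (n + 1))).subsingleton
    have inj : ∀ n, Function.Injective (θ n) → Function.Injective (EtLim.HofPush j G (n + 1)) := by
      intro n hn
      refine (injective_iff_map_eq_zero _).2 fun a ha => ?_
      haveI := hX n
      obtain ⟨c, rfl⟩ := exists_δH hS n a (Subsingleton.elim (α := EtCoh.H X ((EtCoh.push j).obj G') (n + 1)) _ _)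
      obtain ⟨z, hz⟩ := exists_map_of_δH_eq_zero hE n (θ n c) ((hδ n c).symm.trans ha)
      obtain ⟨z', rfl⟩ := (hb' n).2 z
      rw [hn ((hθ n z').trans hz).symm]
      exact δH_map_g hS n z'
    have surj : ∀ n, Function.Surjective (θ n) → Function.Surjective (EtLim.HofPush j G (n + 1)) := by
      intro n hn b
      haveI := hG'0 n
      obtain ⟨y, rfl⟩ := exists_δH hE n b (Subsingleton.elim (α := EtCoh.H W G' (n + 1)) _ _)
      obtain ⟨c, rfl⟩ := hn y
      exact ⟨δH hS n c, hδ n c⟩
    refine ⟨fun k hk => ?_, inj (m + 1) (hQi.comp (hι _).1)⟩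
    rcases Nat.lt_or_ge k (m + 1) with hlt | hge
    · exact hb k (by omega)
    · obtain rfl : k = m + 1 := by omega
      exact ⟨inj m ((hQb m le_rfl).comp (hι m)).1, surj m ((hQb m le_rfl).comp (hι m)).2⟩

end Groth.L27.XV
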